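import Cfsg.Agent.Lib.PLocal.CommonNormal.Qrc.Small

/-!
The quadratic offender, when `V` is inside the core of the small subgroup.
-/

set_option autoImplicit false
set_option linter.unusedSectionVars false
set_option linter.style.longLine false
set_option linter.style.haveILetI false

namespace Cfsg.Agent.PLocal.CommonNormal.Qrc

open Cfsg Subgroup Cfsg.Agent.PLocal.ThompsonSubgroup
open scoped commutatorElement Pointwise

variable {G : Type*} [Group G] [Finite G]

theorem cj_cent (g : G) (Y : Subgroup G) : cj g (centralizer (Y : Set G)) = centralizer (cj g Y : Set G) := by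
  ext x
  obtain ⟨x, rfl⟩ := (MulAut.conj g).surjective x
  exact ⟨by rintro ⟨y, hy, e⟩
            rw [← (MulAut.conj g).injective e]
            exact (mem_centralizer_map (MulAut.conj g).injective Y y).2 hy,
    fun h => ⟨x, (mem_centralizer_map (MulAut.conj g).injective Y x).1 h, rfl⟩⟩

theorem relIndex_cj_cent (g : G) (X Y : Subgroup G) :
    (centralizer (cj g Y : Set G)).relIndex (cj g X) = (centralizer (Y : Set G)).relIndex X := by
  rw [← cj_cent, cj, cj, relIndex_map_map_of_injective _ _ (MulAut.conj g).injective]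

/-- What is moved, when a subgroup of a family of offenders acts. -/
theorem relIndex_cent_sup {D X₁ X₂ : Subgroup G}
    (h₁ : (centralizer (X₁ : Set G)).relIndex D = 1 ∨
      (centralizer (X₁ : Set G)).relIndex D ^ 2 < (centralizer (D : Set G)).relIndex X₁)
    (h₂ : (centralizer (X₂ : Set G)).relIndex (D ⊓ centralizer (X₁ : Set G)) = 1 ∨
      (centralizer (X₂ : Set G)).relIndex (D ⊓ centralizer (X₁ : Set G)) ^ 2 <
        (centralizer ((D ⊓ centralizer (X₁ : Set G) : Subgroup G) : Set G)).relIndex X₂) :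
    (centralizer ((X₁ ⊔ X₂ : Subgroup G) : Set G)).relIndex D = 1 ∨
      (centralizer ((X₁ ⊔ X₂ : Subgroup G) : Set G)).relIndex D ^ 2 <
        (centralizer (D : Set G)).relIndex (X₁ ⊔ X₂) := by
  set D' := D ⊓ centralizer (X₁ : Set G) with hD'
  set X := X₁ ⊔ X₂ with hX
  have hC : centralizer (X : Set G) = centralizer (X₂ : Set G) ⊓ centralizer (X₁ : Set G) := by
    refine le_antisymm (le_inf (Subgroup.centralizer_le (SetLike.coe_subset_coe.2 le_sup_right))
      (Subgroup.centralizer_le (SetLike.coe_subset_coe.2 le_sup_left))) (le_centralizer_iff.1 ?_)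
    exact sup_le (le_centralizer_iff.1 inf_le_right) (le_centralizer_iff.1 inf_le_left)
  have e1 : (centralizer (X : Set G)).relIndex D =
      (centralizer (X₂ : Set G)).relIndex D' * (centralizer (X₁ : Set G)).relIndex D := by
    rw [hC, hD', inf_comm D, relIndex_inf_mul_relIndex]
  have hb : (centralizer (D : Set G)).relIndex X₁ * (centralizer (D' : Set G)).relIndex X₂ ≤
      (centralizer (D : Set G)).relIndex X := by
    have e2 : (centralizer (D : Set G)).relIndex (centralizer (D' : Set G) ⊓ X) *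
        (centralizer (D' : Set G)).relIndex X = (centralizer (D : Set G)).relIndex X := by
      rw [relIndex_inf_mul_relIndex,
        inf_eq_left.2 (Subgroup.centralizer_le (SetLike.coe_subset_coe.2 (inf_le_left : D' ≤ D)))]
    rw [← e2]
    exact Nat.mul_le_mul
      (relIndex_le_of_le_right (le_inf (le_centralizer_iff.1 inf_le_right) le_sup_left) index_ne_zero_of_finite)
      (relIndex_le_of_le_right le_sup_right index_ne_zero_of_finite)
  have hp1 : 0 < (centralizer (D : Set G)).relIndex X₁ := Nat.pos_of_ne_zero index_ne_zero_of_finite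
  have hp2 : 0 < (centralizer (D' : Set G)).relIndex X₂ := Nat.pos_of_ne_zero index_ne_zero_of_finite
  rw [e1, mul_pow]
  rcases h₁ with h₁ | h₁ <;> rcases h₂ with h₂ | h₂
  · exact Or.inl (by rw [h₁, h₂])
  · refine Or.inr (lt_of_lt_of_le ?_ hb)
    rw [h₁, one_pow, mul_one]
    exact h₂.trans_le (Nat.le_mul_of_pos_left _ hp1)
  · refine Or.inr (lt_of_lt_of_le ?_ hb)
    rw [h₂, one_pow, one_mul]
    exact h₁.trans_le (Nat.le_mul_of_pos_right _ hp2)
  · refine Or.inr (lt_of_lt_of_le ?_ hb)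
    rw [mul_comm]
    exact Nat.mul_lt_mul'' h₁ h₂

/-- A subgroup generating, over a given one, at most by the logarithm of the index. -/
theorem exists_gen {P C : Subgroup G} (hC : C ≤ P) :
    ∃ s : Finset G, (s : Set G) ⊆ P ∧ 2 ^ s.card ≤ C.relIndex P ∧ P ≤ closure (s : Set G) ⊔ C := by
  classical
  obtain ⟨s, ⟨hsP, hscard⟩, hmax⟩ := Set.exists_max_image
    {s : Finset G | (s : Set G) ⊆ P ∧ 2 ^ s.card * Nat.card ↥C ≤ Nat.card ↥(closure (s : Set G) ⊔ C)}
    (fun s => Nat.card ↥(closure (s : Set G) ⊔ C)) (Set.toFinite _)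
    ⟨∅, by simp, by
      rw [Finset.card_empty, pow_zero, one_mul]
      exact Subgroup.card_le_of_le le_sup_right⟩
  have hX : closure (s : Set G) ⊔ C ≤ P := sup_le ((closure_le _).2 hsP) hC
  have hPX : P ≤ closure (s : Set G) ⊔ C := by
    by_contra hne
    obtain ⟨x, hx, hxX⟩ := SetLike.not_le_iff_exists.1 hne
    have hxs : x ∉ s := fun hh => hxX (mem_sup_left (subset_closure hh))
    have hle : closure (s : Set G) ⊔ C ≤ closure ((insert x s : Finset G) : Set G) ⊔ C :=
      sup_le_sup_right (closure_mono (Finset.coe_subset.2 (Finset.subset_insert x s))) _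
    have h1 : 2 * Nat.card ↥(closure (s : Set G) ⊔ C) ≤
        Nat.card ↥(closure ((insert x s : Finset G) : Set G) ⊔ C) := by
      obtain ⟨k, hk⟩ := Subgroup.card_dvd_of_le hle
      have hk2 : 2 ≤ k := by
        rcases k with _ | _ | k
        · rw [mul_zero] at hk
          exact absurd hk (Nat.card_pos (α := ↥(closure ((insert x s : Finset G) : Set G) ⊔ C))).ne'
        · refine absurd (eq_of_le_of_card_ge hle (hk.le.trans (mul_one _).le)) fun e => hxX ?_
          rw [e]
          exact mem_sup_left (subset_closure (Finset.mem_insert_self x s))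
        · omega
      rw [hk, mul_comm]
      exact Nat.mul_le_mul_left _ hk2
    have h2 := hmax (insert x s) ⟨by
      rw [Finset.coe_insert]
      exact Set.insert_subset hx hsP, by
      rw [Finset.card_insert_of_notMem hxs, pow_succ', mul_assoc]
      exact (Nat.mul_le_mul_left _ hscard).trans h1⟩
    have h3 := Nat.card_pos (α := ↥(closure (s : Set G) ⊔ C))
    omega
  refine ⟨s, hsP, ?_, hPX⟩
  refine Nat.le_of_mul_le_mul_right (hscard.trans ?_) (Nat.card_pos (α := ↥C))
  have h1 := Blocks.relIndex_mul_card_inf C P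
  rw [inf_eq_right.2 hC] at h1
  exact (Subgroup.card_le_of_le hX).trans h1.ge

/-- The bound from a pairing into a group of order `2`. -/
theorem relIndex_cent_le_of_pairing {U V P Y₀ Y' : Subgroup G} (hVU : V ≤ U)
    (hUc : ∀ u ∈ U, ∀ v ∈ U, u * v = v * u) (hU2 : ∀ u ∈ U, u * u = 1)
    (hPU : P ≤ normalizer (U : Set G)) (hY₀U : Y₀ ≤ U) (hPY₀ : P ≤ normalizer (Y₀ : Set G))
    (hY' : ∀ p ∈ P, ∀ u ∈ U, p * u * p⁻¹ * u⁻¹ ∈ Y')
    (hhalf : ∀ a ∈ Y', a ∉ Y₀ → ∀ b ∈ Y', b ∉ Y₀ → a * b ∈ Y₀)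
    (hX₀ : U ⊓ modCent P Y₀ ≤ centralizer (P : Set G)) :
    (centralizer (P : Set G)).relIndex V ≤ (centralizer (V : Set G)).relIndex P := by
  classical
  obtain ⟨s, hsP, hs, hgen⟩ := exists_gen (P := P) (C := P ⊓ centralizer (V : Set G)) inf_le_left
  rw [inf_relIndex_left] at hs
  refine le_trans ?_ hs
  -- the kernels of the pairing
  have hinv : ∀ u ∈ U, u⁻¹ = u := fun u hu => inv_eq_of_mul_eq_one_right (hU2 u hu)
  let F : ↥P → Subgroup G := fun x =>
    { carrier := {v | v ∈ U ∧ (x : G) * v * (x : G)⁻¹ * v⁻¹ ∈ Y₀}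
      one_mem' := ⟨one_mem _, by simp⟩
      mul_mem' := fun {a b} ha hb => ⟨mul_mem ha.1 hb.1, by
        have hc := hY₀U hb.2
        rw [show (x : G) * (a * b) * (x : G)⁻¹ * (a * b)⁻¹ =
          ((x : G) * a * (x : G)⁻¹ * a⁻¹) * (a * ((x : G) * b * (x : G)⁻¹ * b⁻¹) * a⁻¹) by group,
          hUc a ha.1 _ hc, mul_inv_cancel_right]
        exact mul_mem ha.2 hb.2⟩
      inv_mem' := fun {a} ha => ⟨inv_mem ha.1, by rw [hinv a ha.1]; exact ha.2⟩ }
  have hmemF : ∀ (x : ↥P) (v : G), v ∈ F x ↔ v ∈ U ∧ (x : G) * v * (x : G)⁻¹ * v⁻¹ ∈ Y₀ :=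
    fun _ _ => Iff.rfl
  have hF2 : ∀ x : ↥P, (F x).relIndex V ≤ 2 := by
    intro x
    by_cases hall : V ≤ F x
    · rw [relIndex_eq_one.2 hall]
      omega
    obtain ⟨a, ha, haF⟩ := SetLike.not_le_iff_exists.1 hall
    refine le_of_eq (index_eq_two_iff.2 ⟨⟨a, ha⟩, fun b => ?_⟩)
    simp only [mem_subgroupOf, Subgroup.coe_mul]
    by_cases hb : (b : G) ∈ F x
    · refine Or.inr ⟨hb, fun h => haF ?_⟩
      have := mul_mem (inv_mem hb) h
      rwa [inv_mul_cancel_left] at this
    · refine Or.inl ⟨(hmemF x _).2 ⟨mul_mem (hVU b.2) (hVU ha), ?_⟩, hb⟩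
      rw [show (x : G) * (↑b * a) * (x : G)⁻¹ * (↑b * a)⁻¹ =
          ((x : G) * b * (x : G)⁻¹ * (b : G)⁻¹) * ((b : G) * ((x : G) * a * (x : G)⁻¹ * a⁻¹) * (b : G)⁻¹) by group,
        hUc b (hVU b.2) _ (mul_mem ((mem_normalizer_iff.1 (hPU x.2) a).1 (hVU ha)) (inv_mem (hVU ha))),
        mul_inv_cancel_right]
      exact hhalf _ (hY' x x.2 b (hVU b.2)) (fun h => hb ((hmemF x b).2 ⟨hVU b.2, h⟩))
        _ (hY' x x.2 a (hVU ha)) (fun h => haF ((hmemF x a).2 ⟨hVU ha, h⟩))
  -- the intersection of the kernels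
  have key : ∀ t : Finset ↥P, (V ⊓ t.inf F).relIndex V ≤ 2 ^ t.card := by
    intro t
    induction t using Finset.induction_on with
    | empty => rw [Finset.inf_empty, inf_top_eq, relIndex_self, Finset.card_empty, pow_zero]
    | insert x t hx ih =>
      rw [Finset.inf_insert, Finset.card_insert_of_notMem hx, pow_succ',
        show V ⊓ (F x ⊓ t.inf F) = F x ⊓ (V ⊓ t.inf F) by rw [inf_left_comm]]
      exact relIndex_inf_le.trans (Nat.mul_le_mul (hF2 x) ih)
  set t : Finset ↥P := s.subtype (fun x => x ∈ P) with ht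
  have htc : t.card = s.card := by
    rw [ht, Finset.card_subtype]
    exact congrArg Finset.card (Finset.filter_true_of_mem fun x hx => hsP hx)
  rw [← htc]
  refine le_trans ?_ (key t)
  refine relIndex_le_of_le_left (fun v hv => ?_) index_ne_zero_of_finite
  obtain ⟨hvV, hvt⟩ := hv
  have hvU := hVU hvV
  refine hX₀ ⟨hvU, ?_⟩
  have hPv : P ≤ modCent (zpowers v) Y₀ := by
    refine hgen.trans (sup_le ((closure_le _).2 fun x hx => ⟨hPY₀ (hsP hx), fun y hy => ?_⟩) fun p hp =>
      centralizer_le_modCent (Subgroup.centralizer_le (SetLike.coe_subset_coe.2 (zpowers_le.2 hvV)) hp.2)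
        (hPY₀ hp.1))
    have hxt : (⟨x, hsP hx⟩ : ↥P) ∈ t := by
      rw [ht, Finset.mem_subtype]
      exact hx
    exact ((hmemF _ y).1 ((zpowers_le.2 ((Finset.inf_le hxt : t.inf F ≤ _) hvt)) hy)).2
  refine ⟨?_, fun p hp => ?_⟩
  · exact (le_centralizer_iff.1 (hY₀U.trans fun u hu => fun w hw => hUc w hw u hu) |>.trans
      (centralizer_le_normalizer _)) hvU
  · rw [show v * p * v⁻¹ * p⁻¹ = (p * v * p⁻¹ * v⁻¹)⁻¹ by group]
    exact inv_mem ((hPv hp).2 v (mem_zpowers v))

variable {T : Sylow 2 G} {M M₀ H V : Subgroup G}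

namespace Setup

variable (s : Setup T M M₀ H V)
include s

theorem omega_center_le {X : Subgroup G} (hX : X ≤ H) (hXC : X ≤ centralizer (pCoreOf 2 H : Set G))
    (hsq : ∀ x ∈ X, x ^ 2 = 1) : X ≤ omegaOneCenter 2 (pCoreOf 2 H) := fun x hx =>
  CharP.PushingUpMCL.mem_omegaOneCenter.2 ⟨s.charPH ⟨hX hx, hXC hx⟩, hXC hx, hsq x hx⟩

/-- The first conclusion, when `H` normalizes `V`. -/
theorem common_of_norm (hE : oddGenerated H ≤ centralizer (omegaOneCenter 2 (pCoreOf 2 H) : Set G))
    (hH : H ≤ normalizer (V : Set G)) : Common M₀ H := by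
  by_cases hV : V = ⊥
  · have hcore : pCoreOf 2 M₀ = (T : Subgroup G) := by
      rw [s.coreV, hV]
      refine inf_eq_left.2 fun x _ y hy => ?_
      rw [SetLike.mem_coe, mem_bot] at hy
      rw [hy, one_mul, mul_one]
    set Z := omegaOneCenter 2 (T : Subgroup G) with hZ
    have hZT : Z ≤ (T : Subgroup G) := BlockModule.omegaCenter_le _
    have hZQ : Z ≤ omegaOneCenter 2 (pCoreOf 2 H) := s.omega_center_le (hZT.trans s.tH)
      ((BlockModule.omegaCenter_le_centralizer (p := 2) _).trans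
        (Subgroup.centralizer_le (SetLike.coe_subset_coe.2 s.par.core_le)))
      fun x hx => BlockLocation.pow_eq_one_of_mem_omegaCenter _ hx
    refine ⟨Z, fun e => ?_, hcore.symm ▸ hZT, sup_le ?_ (s.par.normal_of ?_ ?_)⟩
    · obtain ⟨z, hz1, hz2, hz3⟩ := CharP.exists_order_prime_central (p := 2) T.isPGroup' le_rfl
        Subgroup.le_normalizer s.t_ne
      have : z ∈ Z := CharP.PushingUpMCL.mem_omegaOneCenter.2 ⟨hz1, hz3, hz2 ▸ pow_orderOf_eq_one z⟩
      rw [e, mem_bot] at this
      rw [this, orderOf_one] at hz2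
      omega
    · have h1 := CharP.le_normalizer_pCoreOf 2 M₀
      rw [hcore] at h1
      exact h1.trans (BlockModule.le_normalizer_omegaCenter (p := 2) _)
    · exact (hE.trans (Subgroup.centralizer_le (SetLike.coe_subset_coe.2 hZQ))).trans (centralizer_le_normalizer _)
    · exact Subgroup.le_normalizer.trans (BlockModule.le_normalizer_omegaCenter (p := 2) _)
  · exact ⟨V, hV, s.coreV.symm ▸ le_inf s.vT (fun v hv u hu => s.vComm u hu v hv), sup_le s.vNorm hH⟩

variable {L S : Subgroup G} (sm : Small T M H L S)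
include sm

theorem common_of_small_norm (hE : oddGenerated H ≤ centralizer (omegaOneCenter 2 (pCoreOf 2 H) : Set G))
    (hL : oddGenerated L ≤ normalizer (V : Set G)) : Common M₀ H :=
  s.common_of_norm hE (s.small_norm sm s.tV (sm.par.normal_of hL (sm.sT.trans s.tV)))

/-- Without a quadratic offender the conjugates of `V` centralize each other. -/
theorem cj_le_cent (hq : ¬ QuadParamLE M₀ V 2) (hVK : V ≤ pCoreOf 2 L) {l : G} (hl : l ∈ L) :
    cj l V ≤ centralizer (V : Set G) := by
  set K := pCoreOf 2 L with hK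
  have hKn : L ≤ normalizer (K : Set G) := CharP.le_normalizer_pCoreOf 2 L
  have hKT : K ≤ (T : Subgroup G) := sm.par.core_le.trans sm.sT
  have key : ∀ l ∈ L, (centralizer (cj l V : Set G)).relIndex V ≤ (centralizer (V : Set G)).relIndex (cj l V) →
      cj l V ≤ centralizer (V : Set G) := by
    intro l hl hle
    by_contra hne
    have hlK : cj l V ≤ K := (cj_mono l hVK).trans (cj_of_mem (hKn hl)).le
    have hVl : V ≤ normalizer (cj l V : Set G) := hVK.trans
      ((cj_of_mem (hKn hl)).ge.trans ((cj_mono l (hKT.trans s.tV)).trans (Subgroup.le_normalizer_map _)))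
    refine hq ⟨cj l V, (hlK.trans hKT).trans s.tM₀, ⟨hne, ?_, ?_⟩, ?_, ?_⟩
    · rintro _ ⟨v, hv, rfl⟩
      rw [← map_pow, pow_two, s.vSq v hv, map_one]
      exact one_mem _
    · rintro _ ⟨v, hv, rfl⟩ _ ⟨w, hw, rfl⟩
      rw [← map_mul, s.vComm v hv w hw, map_mul, mul_inv_cancel_right, mul_inv_cancel]
      exact one_mem _
    · rw [commutator_eq_bot_iff_le_centralizer]
      refine (Subgroup.commutator_le.2 fun v hv b hb => ?_ : ⁅V, cj l V⁆ ≤ cj l V).trans ?_
      · rw [commutatorElement_def]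
        exact mul_mem ((mem_normalizer_iff.1 (hVl hv) b).1 hb) (inv_mem hb)
      · exact (cj_centralizer l).2 fun v hv w hw => s.vComm w hw v hv
    · rw [inf_relIndex_left]
      exact hle.trans (Nat.le_self_pow two_ne_zero _)
  rcases le_total ((centralizer (cj l V : Set G)).relIndex V) ((centralizer (V : Set G)).relIndex (cj l V))
    with h | h
  · exact key l hl h
  · have e1 := relIndex_cj_cent l⁻¹ V (cj l V)
    have e2 := relIndex_cj_cent l⁻¹ (cj l V) V
    rw [cj_cj, inv_mul_cancel, cj_one] at e1 e2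
    have h1 := key l⁻¹ (inv_mem hl) (by rwa [e2, e1] at *)
    rw [← cj_centralizer l⁻¹, cj_cj, inv_mul_cancel, cj_one, le_centralizer_iff]
    exact h1

/-- Quadratic elementary abelian groups in the core move much of a join of conjugates of `V`. -/
theorem relIndex_cent_conjs (hq : ¬ QuadParamLE M₀ V 2) {D₀ : Subgroup G} (hD₀K : D₀ ≤ pCoreOf 2 L)
    (hD₀c : ∀ a ∈ D₀, ∀ b ∈ D₀, a * b = b * a) (hD₀2 : ∀ a ∈ D₀, a * a = 1)
    (hquad : ∀ l ∈ L, ⁅⁅cj l V, D₀⁆, D₀⁆ = ⊥) (t : Finset ↥L) :
    ∀ D ≤ D₀, (centralizer ((t.sup fun l => cj (l : G) V : Subgroup G) : Set G)).relIndex D = 1 ∨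
      (centralizer ((t.sup fun l => cj (l : G) V : Subgroup G) : Set G)).relIndex D ^ 2 <
        (centralizer (D : Set G)).relIndex (t.sup fun l => cj (l : G) V) := by
  classical
  induction t using Finset.induction_on with
  | empty =>
    refine fun D _ => Or.inl (relIndex_eq_one.2 fun d _ y hy => ?_)
    rw [Finset.sup_empty, SetLike.mem_coe, mem_bot] at hy
    rw [hy, one_mul, mul_one]
  | insert l t hlt ih =>
    intro D hD
    rw [Finset.sup_insert]
    refine relIndex_cent_sup ?_ (ih _ (inf_le_left.trans hD))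
    by_cases hcent : D ≤ centralizer (cj (l : G) V : Set G)
    · exact Or.inl (relIndex_eq_one.2 hcent)
    refine Or.inr ?_
    set D' := cj (l : G)⁻¹ D with hD'
    have hD'K : D' ≤ pCoreOf 2 L := (cj_mono _ (hD.trans hD₀K)).trans
      (cj_of_mem (CharP.le_normalizer_pCoreOf 2 L (inv_mem l.2))).le
    have e1 := relIndex_cj_cent (l : G) D' V
    have e2 := relIndex_cj_cent (l : G) V D'
    rw [hD', cj_cj, mul_inv_cancel, cj_one] at e1 e2
    rw [e1, e2]
    by_contra hle
    refine hq ⟨D', (hD'K.trans (sm.par.core_le.trans sm.sT)).trans s.tM₀, ⟨fun h => hcent ?_, ?_, ?_⟩, ?_, ?_⟩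
    · rw [← cj_centralizer (l : G)⁻¹, cj_cj, inv_mul_cancel, cj_one]
      exact h
    · rintro _ ⟨v, hv, rfl⟩
      rw [← map_pow, pow_two, hD₀2 v (hD hv), map_one]
      exact one_mem _
    · rintro _ ⟨v, hv, rfl⟩ _ ⟨w, hw, rfl⟩
      rw [← map_mul, hD₀c v (hD hv) w (hD hw), map_mul, mul_inv_cancel_right, mul_inv_cancel]
      exact one_mem _
    · have h1 := congrArg (cj (l : G)⁻¹) (hquad l l.2)
      simp only [cj, Subgroup.map_bot, map_commutator] at h1
      refine eq_bot_iff.2 (le_trans ?_ h1.le)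
      have hV : V ≤ (cj (l : G) V).map (MulAut.conj (l : G)⁻¹).toMonoidHom := by
        show V ≤ cj (l : G)⁻¹ (cj (l : G) V)
        rw [cj_cj, inv_mul_cancel, cj_one]
      exact commutator_mono (commutator_mono hV (cj_mono _ hD)) (cj_mono _ hD)
    · rw [inf_relIndex_left]
      exact not_lt.1 hle

end Setup

end Cfsg.Agent.PLocal.CommonNormal.Qrc
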