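import Cfsg.Agent.Lib.PLocal.Natural.Move
import Cfsg.Agent.Lib.PLocal.Blocks.Offending
import Mathlib.LinearAlgebra.Dual.Lemmas
import Mathlib.RepresentationTheory.Basic

/-!
An offender on a normalized elementary abelian subgroup contains a quadratic one.
-/

set_option autoImplicit false
set_option linter.unusedSectionVars false
set_option linter.style.longLine false
set_option linter.style.haveILetI false

namespace Cfsg.Agent.PLocal.CommonNormal.Qrc

open Cfsg.Lib.Offender Cfsg.Agent.FFNatural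
open Subgroup (centralizer normalizer)
open scoped commutatorElement

/-- A `2`-group generates nothing modulo what it moves and an invariant subspace. -/
theorem invariant_eq_top {P V : Type*} [Group P] [Finite P] [AddCommGroup V] [Module (ZMod 2) V] [Finite V]
    {f : Representation (ZMod 2) P V} {B : Subgroup P} (hB : IsPGroup 2 B) {W : Submodule (ZMod 2) V}
    (hW : ∀ b ∈ B, ∀ w ∈ W, f b w ∈ W)
    (h : (⊤ : Submodule (ZMod 2) V) ≤
      Submodule.span (ZMod 2) {x | ∃ a ∈ B, ∃ v, f a v - v = x} ⊔ W) :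
    W = ⊤ := by
  by_contra hne
  haveI : Finite (Module.Dual (ZMod 2) V) := Module.finite_of_finite (ZMod 2)
  have hU : W.dualAnnihilator ≠ ⊥ := fun e =>
    hne (Subspace.dualAnnihilator_inj.1 (e.trans Submodule.dualAnnihilator_top.symm))
  obtain ⟨φ, hφ, hφ0, hφf⟩ := exists_fixed_vector' (f := f.dual) hB hU fun g hg φ hφ => by
    rw [Submodule.mem_dualAnnihilator] at hφ ⊢
    intro v hv
    show φ (f g⁻¹ v) = 0
    exact hφ _ (hW g⁻¹ (inv_mem hg) v hv)
  refine hφ0 (LinearMap.ext fun v => ?_)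
  have hle : Submodule.span (ZMod 2) {x | ∃ a ∈ B, ∃ v, f a v - v = x} ⊔ W ≤ LinearMap.ker φ := by
    refine sup_le (Submodule.span_le.2 ?_) fun w hw => LinearMap.mem_ker.2
      ((Submodule.mem_dualAnnihilator φ).1 hφ w hw)
    rintro _ ⟨a, ha, w, rfl⟩
    have h1 : φ (f a⁻¹⁻¹ w) = φ w := LinearMap.congr_fun (hφf a⁻¹ (inv_mem ha)) w
    rw [inv_inv] at h1
    rw [SetLike.mem_coe, LinearMap.mem_ker, map_sub, h1, sub_self]
  exact LinearMap.mem_ker.1 (hle (h Submodule.mem_top))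

variable {G : Type*} [Group G] [Finite G]

/-- The quadratic offender. -/
theorem exists_quadratic_offender {A N : Subgroup G} (hAc : ∀ a ∈ A, ∀ b ∈ A, a * b = b * a)
    (hA2 : ∀ a ∈ A, a * a = 1) (hNc : ∀ u ∈ N, ∀ v ∈ N, u * v = v * u) (hN2 : ∀ u ∈ N, u * u = 1)
    (hAN : A ≤ normalizer (N : Set G)) (hne : ¬ A ≤ centralizer (N : Set G))
    (hoff : (centralizer (A : Set G)).relIndex N ≤ (centralizer (N : Set G)).relIndex A) :
    ∃ B ≤ A, ¬ B ≤ centralizer (N : Set G) ∧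
      (centralizer (B : Set G)).relIndex N ≤ (centralizer (N : Set G)).relIndex B ∧
      ⁅⁅N, B⁆, B⁆ = ⊥ := by
  classical
  let v : Subgroup G → ℕ := fun B => Nat.card ↥B * Nat.card ↥(N ⊓ centralizer (B : Set G))
  have hNpos : ∀ B : Subgroup G, 0 < Nat.card ↥(N ⊓ centralizer (B : Set G)) := fun _ => Nat.card_pos
  have hAv : Nat.card ↥(A ⊓ centralizer (N : Set G)) * Nat.card ↥N ≤ v A := by
    have h1 := Blocks.relIndex_mul_card_inf (centralizer (N : Set G)) A
    have h2 := Blocks.relIndex_mul_card_inf (centralizer (A : Set G)) N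
    show _ ≤ Nat.card ↥A * _
    rw [← h1, ← h2]
    calc Nat.card ↥(A ⊓ centralizer (N : Set G)) *
          ((centralizer (A : Set G)).relIndex N * Nat.card ↥(N ⊓ centralizer (A : Set G)))
        ≤ Nat.card ↥(A ⊓ centralizer (N : Set G)) *
          ((centralizer (N : Set G)).relIndex A * Nat.card ↥(N ⊓ centralizer (A : Set G))) :=
          Nat.mul_le_mul_left _ (Nat.mul_le_mul_right _ hoff)
      _ = _ := by ring
  obtain ⟨B₀, hB₀A, hB₀max⟩ := Set.exists_max_image {B : Subgroup G | B ≤ A} v (Set.toFinite _) ⟨A, show A ≤ A from le_rfl⟩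
  obtain ⟨B, ⟨hBA, hBv⟩, hBcard⟩ := Set.exists_max_image {B : Subgroup G | B ≤ A ∧ v B = v B₀}
    (fun B => Nat.card ↥B) (Set.toFinite _) ⟨B₀, hB₀A, rfl⟩
  have hBmax : ∀ C : Subgroup G, C ≤ A → v C ≤ v B := fun C hC => hBv.symm ▸ hB₀max C hC
  -- the representation
  haveI : IsMulCommutative ↥N := ⟨⟨fun a b => Subtype.ext (hNc a a.2 b b.2)⟩⟩
  letI : CommGroup ↥N := { (inferInstance : Group ↥N) with mul_comm := fun a b => Subtype.ext (hNc a a.2 b b.2) }
  letI : Module (ZMod 2) (Additive ↥N) := AddCommGroup.zmodModule (n := 2) (G := Additive ↥N) fun w =>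
    congrArg Additive.ofMul (show w.toMul ^ 2 = 1 from Subtype.ext (by
      rw [Subgroup.coe_pow, pow_two]; exact hN2 _ w.toMul.2))
  let f : Representation (ZMod 2) ↥A (Additive ↥N) :=
    actRep (N.normalizerMonoidHom.comp (Subgroup.inclusion hAN))
  have happ : ∀ (a : ↥A) (n : ↥N), ((f a (Additive.ofMul n)).toMul : G) = a * n * (a : G)⁻¹ := fun a n => rfl
  have hfix : ∀ (C : Subgroup ↥A) (n : ↥N),
      Additive.ofMul n ∈ fixed f C ↔ (n : G) ∈ centralizer (C.map A.subtype : Set G) := by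
    intro C n
    constructor
    · rintro hn _ ⟨a, ha, rfl⟩
      exact mul_inv_eq_iff_eq_mul.1 (congrArg (fun w : Additive ↥N => (w.toMul : G)) (hn a ha))
    · intro hn a ha
      refine Additive.toMul.injective (Subtype.ext ?_)
      rw [happ, mul_inv_eq_iff_eq_mul]
      exact hn _ ⟨a, ha, rfl⟩
  have hcard : ∀ C : Subgroup ↥A, Nat.card ↥(fixed f C) =
      Nat.card ↥(N ⊓ centralizer (C.map A.subtype : Set G)) := fun C => Nat.card_congr
    { toFun := fun w => ⟨(w.1.toMul : G), w.1.toMul.2, (hfix C w.1.toMul).1 w.2⟩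
      invFun := fun n => ⟨Additive.ofMul ⟨n.1, n.2.1⟩, (hfix C ⟨n.1, n.2.1⟩).2 n.2.2⟩
      left_inv := fun _ => rfl
      right_inv := fun _ => rfl }
  have hmap : ∀ C : Subgroup ↥A, Nat.card ↥C * Nat.card ↥(fixed f C) = v (C.map A.subtype) := fun C => by
    show _ = Nat.card ↥(C.map A.subtype) * _
    rw [hcard, Subgroup.card_map_of_injective A.subtype_injective]
  set B' := B.subgroupOf A with hB'
  have hB'map : B'.map A.subtype = B := Subgroup.map_subgroupOf_eq_of_le hBA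
  obtain ⟨C, hCB, hCv, hquad, hfixC⟩ := replacement (f := f) (A := B')
    (fun a _ b _ => Subtype.ext (hAc a a.2 b b.2)) fun C _ => by
      rw [hmap, hmap, hB'map]
      exact hBmax _ (Subgroup.map_subtype_le C)
  rw [hmap, hmap, hB'map] at hCv
  set B₁ := C.map A.subtype with hB₁
  have hB₁A : B₁ ≤ A := Subgroup.map_subtype_le C
  have hB₁v : v B₁ = v B := le_antisymm (hBmax _ hB₁A) hCv
  have hne₁ : ¬ B₁ ≤ centralizer (N : Set G) := by
    intro hle
    have h1 : v B₁ ≤ v A := by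
      refine le_trans (Nat.mul_le_mul (Subgroup.card_le_of_le (le_inf hB₁A hle))
        (Subgroup.card_le_of_le inf_le_left)) hAv
    have hAB : v A = v B := le_antisymm (hBmax A le_rfl) (hB₁v ▸ h1)
    have hBA' : B = A := Subgroup.eq_of_le_of_card_ge hBA (hBcard A ⟨le_rfl, hAB.trans hBv⟩)
    have hB'top : B' = ⊤ := Subgroup.subgroupOf_eq_top.2 hBA'.ge
    have hCtop : fixed f C = ⊤ := eq_top_iff.2 fun w _ => (hfix C w.toMul).2 fun y hy =>
      ((hle hy) _ w.toMul.2).symm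
    have h2 := invariant_eq_top (f := f) (B := B') (W := fixed f B') (fun a => ⟨1, Subtype.ext (Subtype.ext (by
      rw [pow_one, Subgroup.coe_pow, Subgroup.coe_pow, pow_two]; exact hA2 _ a.1.2))⟩)
      (fun b hb w hw => (hw b hb).symm ▸ hw) (hCtop.ge.trans hfixC)
    refine hne fun a ha n hn => ?_
    have h3 := (hfix B' ⟨n, hn⟩).1 (h2 ▸ Submodule.mem_top)
    rw [hB'map, hBA'] at h3
    exact (h3 a ha).symm
  refine ⟨B₁, hB₁A, hne₁, ?_, ?_⟩
  · have h1 := Blocks.relIndex_mul_card_inf (centralizer (N : Set G)) B₁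
    have h2 := Blocks.relIndex_mul_card_inf (centralizer (B₁ : Set G)) N
    refine Nat.le_of_mul_le_mul_right ?_
      (Nat.mul_pos (hNpos B₁) (Nat.card_pos (α := ↥(B₁ ⊓ centralizer (N : Set G)))))
    calc (centralizer (B₁ : Set G)).relIndex N *
          (Nat.card ↥(N ⊓ centralizer (B₁ : Set G)) * Nat.card ↥(B₁ ⊓ centralizer (N : Set G)))
        = Nat.card ↥(B₁ ⊓ centralizer (N : Set G)) * Nat.card ↥N := by rw [← mul_assoc, h2, mul_comm]
      _ ≤ Nat.card ↥(A ⊓ centralizer (N : Set G)) * Nat.card ↥N :=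
          Nat.mul_le_mul_right _ (Subgroup.card_le_of_le (inf_le_inf_right _ hB₁A))
      _ ≤ v B₁ := hAv.trans (hB₁v ▸ hBmax A le_rfl)
      _ = _ := by show Nat.card ↥B₁ * _ = _; rw [← h1]; ring
  · rw [Subgroup.commutator_eq_bot_iff_le_centralizer, Subgroup.commutator_le]
    rintro n hn _ ⟨a, ha, rfl⟩ _ ⟨b, hb, rfl⟩
    have h1 := congrArg (fun w : Additive ↥N => (w.toMul : G))
      (hquad b hb a (hCB ha) (Additive.ofMul ⟨n, hn⟩))
    have h2 : (A.subtype b) * (((a : G) * n * (a : G)⁻¹) * n⁻¹) * (A.subtype b)⁻¹ =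
        ((a : G) * n * (a : G)⁻¹) * n⁻¹ := by
      rw [sub_eq_add_neg] at h1
      exact h1
    have h3 : (A.subtype b) * (((a : G) * n * (a : G)⁻¹) * n⁻¹) =
        (((a : G) * n * (a : G)⁻¹) * n⁻¹) * A.subtype b := mul_inv_eq_iff_eq_mul.1 h2
    rw [show ⁅n, A.subtype a⁆ = (((a : G) * n * (a : G)⁻¹) * n⁻¹)⁻¹ by
      rw [commutatorElement_def, Subgroup.subtype_apply]; group]
    exact (Commute.inv_right (show Commute (A.subtype b) _ from h3)).eq

/-- An invariant subgroup together with what a `2`-group moves into generates only if it is everything. -/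
theorem le_of_moved {S U W Y : Subgroup G} (hS : IsPGroup 2 S) (hUc : ∀ u ∈ U, ∀ v ∈ U, u * v = v * u)
    (hU2 : ∀ u ∈ U, u * u = 1) (hSU : S ≤ normalizer (U : Set G)) (hWU : W ≤ U)
    (hSW : S ≤ normalizer (W : Set G)) (hY : Y ≤ ⁅U, S⁆) (h : U ≤ W ⊔ Y) : U ≤ W := by
  classical
  letI : CommGroup ↥U := { (inferInstance : Group ↥U) with mul_comm := fun a b => Subtype.ext (hUc a a.2 b b.2) }
  letI : Module (ZMod 2) (Additive ↥U) := AddCommGroup.zmodModule (n := 2) (G := Additive ↥U) fun w =>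
    congrArg Additive.ofMul (show w.toMul ^ 2 = 1 from Subtype.ext (by
      rw [Subgroup.coe_pow, pow_two]; exact hU2 _ w.toMul.2))
  let f : Representation (ZMod 2) ↥S (Additive ↥U) :=
    actRep (U.normalizerMonoidHom.comp (Subgroup.inclusion hSU))
  let W' : Submodule (ZMod 2) (Additive ↥U) :=
    AddSubgroup.toZModSubmodule 2 (Subgroup.toAddSubgroup (W.subgroupOf U))
  let Sp := Submodule.span (ZMod 2) {x | ∃ a ∈ (⊤ : Subgroup ↥S), ∃ v, f a v - v = x}
  have hW'mem : ∀ {g : G} (hg : g ∈ U), g ∈ W → Additive.ofMul (⟨g, hg⟩ : ↥U) ∈ W' := fun _ h => h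
  -- what the sum generates in the ambient group
  let Z' : Subgroup ↥U :=
    { carrier := {y | Additive.ofMul y ∈ Sp ⊔ W'}
      one_mem' := (Sp ⊔ W').zero_mem
      mul_mem' := fun ha hb => (Sp ⊔ W').add_mem ha hb
      inv_mem' := fun ha => (Sp ⊔ W').neg_mem ha }
  let Z : Subgroup G := Z'.map U.subtype
  have hWZ : W ≤ Z := fun w hw => ⟨⟨w, hWU hw⟩,
    (Submodule.mem_sup_right (S := Sp) (hW'mem (hWU hw) hw) :), rfl⟩
  have hYZ : ⁅U, S⁆ ≤ Z := Subgroup.commutator_le.2 fun u hu t ht => by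
    have hc : ⁅u, t⁆ = ((t : G) * u * t⁻¹ * u⁻¹)⁻¹ := by rw [commutatorElement_def]; group
    rw [hc]
    refine inv_mem ⟨⟨t * u * t⁻¹ * u⁻¹,
      mul_mem ((Subgroup.mem_normalizer_iff.1 (hSU ht) u).1 hu) (inv_mem hu)⟩, ?_, rfl⟩
    show Additive.ofMul _ ∈ Sp ⊔ W'
    refine Submodule.mem_sup_left (Submodule.subset_span
      ⟨⟨t, ht⟩, Subgroup.mem_top _, Additive.ofMul ⟨u, hu⟩, ?_⟩)
    rw [sub_eq_add_neg]
    rfl
  have htop : W' = ⊤ := by
    refine invariant_eq_top (f := f) (B := (⊤ : Subgroup ↥S)) (hS.of_equiv Subgroup.topEquiv.symm)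
      (fun b _ w hw => (Subgroup.mem_normalizer_iff.1 (hSW b.2) _).1 hw) fun w _ => ?_
    obtain ⟨y, hy, e⟩ := (h.trans (sup_le hWZ (hY.trans hYZ))) w.toMul.2
    have he : y = w.toMul := Subtype.ext e
    rw [he] at hy
    exact hy
  intro u hu
  exact (htop.ge (Submodule.mem_top : Additive.ofMul (⟨u, hu⟩ : ↥U) ∈ _) :)

/-- A nontrivial normalized elementary abelian group has an invariant subgroup of index `2`. -/
theorem exists_half {S U : Subgroup G} (hS : IsPGroup 2 S) (hUc : ∀ u ∈ U, ∀ v ∈ U, u * v = v * u)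
    (hU2 : ∀ u ∈ U, u * u = 1) (hSU : S ≤ normalizer (U : Set G)) (hne : U ≠ ⊥) :
    ∃ N : Subgroup G, N ≤ U ∧ ¬ U ≤ N ∧ S ≤ normalizer (N : Set G) ∧
      ∀ a ∈ U, a ∉ N → ∀ b ∈ U, b ∉ N → a * b ∈ N := by
  classical
  letI : CommGroup ↥U := { (inferInstance : Group ↥U) with mul_comm := fun a b => Subtype.ext (hUc a a.2 b b.2) }
  letI : Module (ZMod 2) (Additive ↥U) := AddCommGroup.zmodModule (n := 2) (G := Additive ↥U) fun w =>
    congrArg Additive.ofMul (show w.toMul ^ 2 = 1 from Subtype.ext (by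
      rw [Subgroup.coe_pow, pow_two]; exact hU2 _ w.toMul.2))
  let f : Representation (ZMod 2) ↥S (Additive ↥U) :=
    actRep (U.normalizerMonoidHom.comp (Subgroup.inclusion hSU))
  haveI : Finite (Module.Dual (ZMod 2) (Additive ↥U)) := Module.finite_of_finite (ZMod 2)
  haveI : Nontrivial ↥U := (Subgroup.nontrivial_iff_ne_bot U).2 hne
  obtain ⟨φ, -, hφ0, hφf⟩ := exists_fixed_vector' (f := f.dual) (S := (⊤ : Subgroup ↥S))
    (hS.of_equiv Subgroup.topEquiv.symm) (U := (⊤ : Submodule (ZMod 2) _)) top_ne_bot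
    (fun _ _ _ _ => trivial)
  let N' : Subgroup ↥U :=
    { carrier := {y | φ (Additive.ofMul y) = 0}
      one_mem' := map_zero φ
      mul_mem' := fun {a b} ha hb => show φ (Additive.ofMul a + Additive.ofMul b) = 0 by
        rw [map_add, ha, hb, add_zero]
      inv_mem' := fun {a} ha => show φ (-Additive.ofMul a) = 0 by rw [map_neg, ha, neg_zero] }
  refine ⟨N'.map U.subtype, Subgroup.map_subtype_le _, fun hle => hφ0 (LinearMap.ext fun w => ?_),
    fun t ht => ?_, ?_⟩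
  · obtain ⟨y, hy, e⟩ := hle w.toMul.2
    have he : y = w.toMul := Subtype.ext e
    rw [he] at hy
    exact hy
  · refine Subgroup.mem_normalizer_iff_map_conj_eq.2 (Subgroup.eq_of_le_of_card_ge ?_
      (Subgroup.card_map_of_injective (MulAut.conj t).injective).ge)
    rintro _ ⟨_, ⟨y, hy, rfl⟩, rfl⟩
    refine ⟨(f ⟨t, ht⟩ (Additive.ofMul y)).toMul, ?_, rfl⟩
    have h1 : φ (f (⟨t, ht⟩ : ↥S)⁻¹⁻¹ (Additive.ofMul y)) = φ (Additive.ofMul y) :=
      LinearMap.congr_fun (hφf (⟨t, ht⟩ : ↥S)⁻¹ (Subgroup.mem_top _)) (Additive.ofMul y)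
    rw [inv_inv] at h1
    exact h1.trans hy
  · intro a ha haN b hb hbN
    refine ⟨⟨a * b, mul_mem ha hb⟩, ?_, rfl⟩
    have hz : ∀ z : ZMod 2, z ≠ 0 → z = 1 := by decide
    have h1 : φ (Additive.ofMul ⟨a, ha⟩) = 1 := hz _ fun e => haN ⟨⟨a, ha⟩, e, rfl⟩
    have h2 : φ (Additive.ofMul ⟨b, hb⟩) = 1 := hz _ fun e => hbN ⟨⟨b, hb⟩, e, rfl⟩
    show φ (Additive.ofMul (⟨a, ha⟩ : ↥U) + Additive.ofMul (⟨b, hb⟩ : ↥U)) = 0
    rw [map_add, h1, h2]
    rfl

end Cfsg.Agent.PLocal.CommonNormal.Qrc
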