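import Cfsg.Agent.Lib.PLocal.CommonNormal.Qrc.Par
import Cfsg.Agent.Lib.PLocal.CommonNormal.Qrc.Quad

/-!
The setting of the qrc lemma, the Baumann subgroup in it, and the case of a core with a moved centre.
-/

set_option autoImplicit false
set_option linter.unusedSectionVars false
set_option linter.style.longLine false
set_option linter.style.haveILetI false

namespace Cfsg.Agent.PLocal.CommonNormal.Qrc

open Cfsg Subgroup Cfsg.Agent.PLocal.ThompsonSubgroup
open scoped commutatorElement Pointwise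

variable {G : Type*} [Group G] [Finite G]

/-- A `2`-group over the Baumann subgroup of a Sylow subgroup meets its centralizer in it. -/
theorem baumann_eq_inf (T : Sylow 2 G) {S : Subgroup G} (hS : IsPGroup 2 S)
    (hBS : baumannSubgroupOf 2 (T : Subgroup G) ≤ S) :
    thompsonSubgroupOf 2 S = thompsonSubgroupOf 2 (T : Subgroup G) ∧
    normalizer (S : Set G) ≤ normalizer (baumannSubgroupOf 2 (T : Subgroup G) : Set G) := by
  obtain ⟨S', hS'⟩ := hS.exists_le_sylow
  have hJS : thompsonSubgroupOf 2 (T : Subgroup G) ≤ S := (BlockBasic.thompson_le_baumann _).trans hBS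
  have hJ' := BlockBasic.thompson_eq T S' (hJS.trans hS')
  have hJ : thompsonSubgroupOf 2 S = thompsonSubgroupOf 2 (T : Subgroup G) := by
    rw [← hJ']
    exact thompsonSubgroupOf_eq_of_le_of_le (hJ'.le.trans hJS) hS'
  refine ⟨hJ, fun g hg => ?_⟩
  set C := centralizer (omegaOne 2 (centerThompsonOf 2 (T : Subgroup G)) : Set G) with hC
  have hB' : baumannSubgroupOf 2 (S' : Subgroup G) = (S' : Subgroup G) ⊓ C := by
    simp only [baumannSubgroupOf, centerThompsonOf, hJ', hC]
  have hcard : Nat.card ↥(baumannSubgroupOf 2 (S' : Subgroup G)) ≤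
      Nat.card ↥(baumannSubgroupOf 2 (T : Subgroup G)) := by
    obtain ⟨k, rfl⟩ := MulAction.exists_smul_eq G T S'
    rw [Sylow.coe_subgroup_smul,
      show MulAut.conj k • (T : Subgroup G) = (T : Subgroup G).map (MulAut.conj k).toMonoidHom from rfl,
      ← BlockBasic.baumann_conj]
    exact (card_map_of_injective (MulAut.conj k).injective).le
  have he : baumannSubgroupOf 2 (T : Subgroup G) = (S' : Subgroup G) ⊓ C :=
    eq_of_le_of_card_ge (le_inf (hBS.trans hS') inf_le_right) (hB' ▸ hcard)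
  have hSC : baumannSubgroupOf 2 (T : Subgroup G) = S ⊓ C :=
    le_antisymm (le_inf hBS inf_le_right) ((inf_le_inf_right _ hS').trans he.ge)
  rw [hSC]
  refine inf_normalizer_le_normalizer_inf (Subgroup.mem_inf.2 ⟨hg, ?_⟩)
  have h1 : g ∈ normalizer (thompsonSubgroupOf 2 (T : Subgroup G) : Set G) := by
    rw [← hJ]; exact normalizer_le_normalizer_thompsonSubgroupOf (p := 2) S hg
  exact CharP.normalizer_le_normalizer_centralizer _
    (BlockBasic.le_normalizer_omegaOne (p := 2) _ (BlockBasic.le_normalizer_centerThompsonOf (p := 2) _ h1))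

/-- The hypotheses of the qrc lemma that are used. -/
structure Setup (T : Sylow 2 G) (M M₀ H V : Subgroup G) : Prop where
  even : Cfsg.IsOfEvenCharacteristic G
  tM : (T : Subgroup G) ≤ M
  tM₀ : (T : Subgroup G) ≤ M₀
  tH : (T : Subgroup G) ≤ H
  hOne : pCore 2 ↥H ≠ ⊥
  notM : ¬ H ≤ M
  min : ∀ X : Subgroup G, (T : Subgroup G) ≤ X → X ≤ H → X = H ∨ X ≤ M
  vLe : V ≤ M₀
  vNorm : M₀ ≤ normalizer (V : Set G)
  vComm : ∀ u ∈ V, ∀ v ∈ V, u * v = v * u
  vSq : ∀ u ∈ V, u * u = 1
  coreV : pCoreOf 2 M₀ = (T : Subgroup G) ⊓ centralizer (V : Set G)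

/-- The first conclusion. -/
def Common (M₀ H : Subgroup G) : Prop :=
  ∃ R₀ : Subgroup G, R₀ ≠ ⊥ ∧ R₀ ≤ pCoreOf 2 M₀ ∧ M₀ ⊔ H ≤ normalizer (R₀ : Set G)

variable {T : Sylow 2 G} {M M₀ H V : Subgroup G}

namespace Setup

variable (s : Setup T M M₀ H V)
include s

theorem sylH : CharP.IsSylIn 2 (T : Subgroup G) H :=
  (CharP.isSylIn_top_iff.2 ⟨T, rfl⟩).mono s.tH le_top

theorem par : Par H (T : Subgroup G) (H ⊓ M) where
  syl := s.sylH
  lt := lt_of_le_of_ne inf_le_left fun e => s.notM (e.ge.trans inf_le_right)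
  le := le_inf s.tH s.tM
  uniq := fun X hTX hX => le_inf hX.le ((s.min X hTX hX.le).resolve_left hX.ne)

theorem core_ne : pCoreOf 2 H ≠ ⊥ := fun e =>
  s.hOne ((map_eq_bot_iff_of_injective _ H.subtype_injective).1 e)

theorem t_ne : (T : Subgroup G) ≠ ⊥ := fun e =>
  s.core_ne (le_bot_iff.1 (e ▸ s.par.core_le))

theorem charPH : CharP.IsCharP 2 H := by
  have hHL : H ≤ normalizer (pCoreOf 2 H : Set G) := CharP.le_normalizer_pCoreOf 2 H
  have hLc : CharP.IsCharP 2 (normalizer (pCoreOf 2 H : Set G)) := (CharP.isCharP_iff _).2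
    (s.even _ ⟨_, CharP.isPGroup_pCoreOf 2 H, s.core_ne, rfl⟩ ⟨T, s.tH.trans hHL⟩)
  exact isCharP_of_sylow_le hLc ((CharP.isSylIn_top_iff.2 ⟨T, rfl⟩).mono (s.tH.trans hHL) le_top) s.tH hHL

theorem vP : IsPGroup 2 ↥V := fun v => ⟨1, Subtype.ext (by
  rw [pow_one, Subgroup.coe_pow, pow_two]; exact s.vSq _ v.2)⟩

theorem vT : V ≤ (T : Subgroup G) :=
  (CharP.le_pCoreOf s.vLe s.vNorm s.vP).trans (s.coreV.le.trans inf_le_left)

theorem tV : (T : Subgroup G) ≤ normalizer (V : Set G) := s.tM₀.trans s.vNorm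

theorem vElem : IsElementaryAbelian 2 V :=
  isElementaryAbelian_iff.2 ⟨s.vComm, fun u hu => by rw [pow_two]; exact s.vSq u hu⟩

/-- Without a quadratic offender the elementary abelian subgroups of largest order centralise `V`. -/
theorem max_le (hq : ¬ QuadParamLE M₀ V 2) {A : Subgroup G} (hA : A ∈ maxElementaryAbelianSubgroups 2 G)
    (hAT : A ≤ (T : Subgroup G)) : A ≤ centralizer (V : Set G) := by
  by_contra hne
  obtain ⟨hab, hexp⟩ := isElementaryAbelian_iff.1 hA.1
  obtain ⟨B, hBA, hBne, hle, hquad⟩ := exists_quadratic_offender hab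
    (fun a ha => by rw [← pow_two]; exact hexp a ha) s.vComm s.vSq (hAT.trans s.tV) hne
    (Blocks.relIndex_le_of_max hA s.vElem)
  refine hq ⟨B, (hBA.trans hAT).trans s.tM₀, ⟨hBne, fun b hb => ?_, fun b hb b' hb' => ?_⟩, hquad, ?_⟩
  · rw [hexp b (hBA hb)]
    exact one_mem _
  · rw [hab b (hBA hb) b' (hBA hb'), mul_inv_cancel_right, mul_inv_cancel]
    exact one_mem _
  · rw [inf_relIndex_left]
    exact hle.trans (Nat.le_self_pow two_ne_zero _)

theorem thompson_le (hq : ¬ QuadParamLE M₀ V 2) :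
    thompsonSubgroupOf 2 (T : Subgroup G) ≤ (T : Subgroup G) ⊓ centralizer (V : Set G) := by
  obtain ⟨A, hA, hAT⟩ := BlockBasic.exists_max_le (p := 2) T
  exact PushUp.thompsonOf_le hA hAT fun D hD hDT => le_inf hDT (s.max_le hq hD hDT)

theorem v_le_center (hq : ¬ QuadParamLE M₀ V 2) :
    V ≤ omegaOne 2 (centerThompsonOf 2 (T : Subgroup G)) := by
  obtain ⟨A, hA, hAT⟩ := BlockBasic.exists_max_le (p := 2) T
  intro v hv
  refine Omega.mem_omegaOne ⟨le_thompsonSubgroupOf hA hAT (mem_of_centralizes hA (fun a ha => ?_) ?_),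
    fun y hy => ?_⟩ (by rw [pow_two]; exact s.vSq v hv)
  · exact ((s.max_le hq hA hAT) ha v hv).symm
  · rw [pow_two]; exact s.vSq v hv
  · exact (((s.thompson_le hq) hy).2 v hv).symm

theorem baumann_le (hq : ¬ QuadParamLE M₀ V 2) :
    baumannSubgroupOf 2 (T : Subgroup G) ≤ pCoreOf 2 M₀ := by
  rw [s.coreV]
  exact fun x hx => Subgroup.mem_inf.2 ⟨hx.1, Subgroup.centralizer_le (s.v_le_center hq) hx.2⟩

theorem baumann_ne : baumannSubgroupOf 2 (T : Subgroup G) ≠ ⊥ := fun e => by
  obtain ⟨z, hz1, hz2, hz3⟩ := CharP.exists_order_prime_central (p := 2) T.isPGroup' le_rfl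
    Subgroup.le_normalizer s.t_ne
  obtain ⟨A, hA, hAT⟩ := BlockBasic.exists_max_le (p := 2) T
  have : z ∈ baumannSubgroupOf 2 (T : Subgroup G) := BlockBasic.thompson_le_baumann _
    (le_thompsonSubgroupOf hA hAT (mem_of_centralizes hA (centralizer_le hAT hz3)
      (hz2 ▸ pow_orderOf_eq_one z)))
  rw [e, mem_bot] at this
  rw [this, orderOf_one] at hz2
  omega

theorem baumann_norm (hq : ¬ QuadParamLE M₀ V 2) :
    M₀ ≤ normalizer (baumannSubgroupOf 2 (T : Subgroup G) : Set G) :=
  (CharP.le_normalizer_pCoreOf 2 M₀).trans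
    (baumann_eq_inf T (CharP.isPGroup_pCoreOf 2 M₀) (s.baumann_le hq)).2

/-- A characteristic subgroup of the Baumann subgroup normalized by `H` gives the first conclusion. -/
theorem common_of_char (hq : ¬ QuadParamLE M₀ V 2) {C : Subgroup G}
    (hC : C ≤ baumannSubgroupOf 2 (T : Subgroup G)) (hne : C ≠ ⊥)
    (hch : (C.subgroupOf (baumannSubgroupOf 2 (T : Subgroup G))).Characteristic)
    (hH : H ≤ normalizer (C : Set G)) : Common M₀ H := by
  refine ⟨C, hne, hC.trans (s.baumann_le hq), sup_le (fun g hg => ?_) hH⟩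
  set B := baumannSubgroupOf 2 (T : Subgroup G)
  have e : B.map (MulAut.conj g).toMonoidHom = B :=
    mem_normalizer_iff_map_conj_eq.1 (s.baumann_norm hq hg)
  refine mem_normalizer_iff_map_conj_eq.2 (eq_of_le_of_card_ge ?_
    (card_map_of_injective (MulAut.conj g).injective).ge)
  rintro _ ⟨x, hx, rfl⟩
  let α : ↥B ≃* ↥B := ((MulAut.conj g).subgroupMap B).trans (MulEquiv.subgroupCongr e)
  exact (characteristic_iff_map_le.1 hch α) ⟨⟨x, hC hx⟩, hx, rfl⟩

theorem common_of_baumann (hq : ¬ QuadParamLE M₀ V 2)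
    (hH : H ≤ normalizer (baumannSubgroupOf 2 (T : Subgroup G) : Set G)) : Common M₀ H :=
  ⟨_, s.baumann_ne, s.baumann_le hq, sup_le (s.baumann_norm hq) hH⟩

theorem common_of_thompson (hq : ¬ QuadParamLE M₀ V 2)
    (hH : H ≤ normalizer (thompsonSubgroupOf 2 (T : Subgroup G) : Set G)) : Common M₀ H := by
  set J := thompsonSubgroupOf 2 (T : Subgroup G) with hJ
  have hJB : J ≤ baumannSubgroupOf 2 (T : Subgroup G) := BlockBasic.thompson_le_baumann _
  refine s.common_of_char hq hJB (fun e => ?_) ?_ hH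
  · obtain ⟨A, hA, hAT⟩ := BlockBasic.exists_max_le (p := 2) T
    obtain ⟨z, hz1, hz2, hz3⟩ := CharP.exists_order_prime_central (p := 2) T.isPGroup' le_rfl
      Subgroup.le_normalizer s.t_ne
    have hzA := le_thompsonSubgroupOf hA hAT (mem_of_centralizes hA (centralizer_le hAT hz3)
      (hz2 ▸ pow_orderOf_eq_one z))
    rw [← hJ, e, mem_bot] at hzA
    rw [hzA, orderOf_one] at hz2
    omega
  · have e := thompsonSubgroupOf_eq_of_le_of_le (p := 2) (U := baumannSubgroupOf 2 (T : Subgroup G)) hJB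
      (BlockBasic.baumann_le _)
    rw [hJ, ← e, thompsonSubgroupOf, subgroupOf, comap_map_eq_self_of_injective (subtype_injective _)]
    exact characteristic_iff_map_eq.2 fun e => map_thompsonSubgroup_equiv e

/-- The first conclusion when the centre of the core is moved. -/
theorem common_of_moved (hq : ¬ QuadParamLE M₀ V 2)
    (hE : ¬ oddGenerated H ≤ centralizer (omegaOneCenter 2 (pCoreOf 2 H) : Set G)) : Common M₀ H := by
  classical
  set B := baumannSubgroupOf 2 (T : Subgroup G) with hB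
  by_cases hHB : H ≤ normalizer (B : Set G)
  · exact s.common_of_baumann hq hHB
  by_cases hchar : ∃ C : Subgroup G, C ≤ B ∧ C ≠ ⊥ ∧ (C.subgroupOf B).Characteristic ∧
      H ≤ normalizer (C : Set G)
  · obtain ⟨C, h1, h2, h3, h4⟩ := hchar
    exact s.common_of_char hq h1 h2 h3 h4
  push Not at hchar
  have hTH : ¬ H ≤ normalizer ((T : Subgroup G) : Set G) := fun h => hHB
    (h.trans (baumann_eq_inf T T.isPGroup' (BlockBasic.baumann_le _)).2)
  set Q := pCoreOf 2 H with hQ
  set Z := omegaOneCenter 2 Q with hZdef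
  have hQn : H ≤ normalizer (Q : Set G) := CharP.le_normalizer_pCoreOf 2 H
  have hZn : H ≤ normalizer (Z : Set G) := hQn.trans (BlockModule.le_normalizer_omegaCenter (p := 2) Q)
  have hZQ : Z ≤ Q := BlockModule.omegaCenter_le Q
  have hQH : Q ≤ H := CharP.pCoreOf_le 2 H
  have hsect : Sect H Z ⊥ :=
    { le := bot_le
      leL := hZQ.trans hQH
      nX := hZn
      nN := by rw [normalizer_eq_top]; exact le_top
      sq := fun x hx => mem_bot.2 (by rw [← pow_two]; exact BlockLocation.pow_eq_one_of_mem_omegaCenter _ hx)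
      core := fun k hk => modCent_bot.2 fun x hx =>
        ((BlockModule.omegaCenter_le_centralizer (p := 2) Q hx) k hk).symm
      move := fun h => hE fun g hg => modCent_bot.1 (h hg) }
  have hz : ¬ H ≤ normalizer (omegaOneCenter 2 (T : Subgroup G) : Set G) := by
    intro hn
    set ZT := omegaOneCenter 2 (T : Subgroup G) with hZT
    have hEZ : oddGenerated H ≤ centralizer (ZT : Set G) := by
      refine ((s.par.dichotomy (inf_le_left : H ⊓ centralizer (ZT : Set G) ≤ H)
        ((le_inf Subgroup.le_normalizer (hn.trans (CharP.normalizer_le_normalizer_centralizer _))).trans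
          inf_normalizer_le_normalizer_inf)).resolve_left fun hle => hTH ?_).trans inf_le_right
      have hT' : (T : Subgroup G) ≤ H ⊓ centralizer (ZT : Set G) := le_inf s.tH
        (le_centralizer_iff.1 (BlockModule.omegaCenter_le_centralizer (p := 2) _))
      have h1 : (T : Subgroup G) ≤ Q := (le_inf le_rfl hT').trans (s.par.inf_le_core inf_le_left
        ((le_inf Subgroup.le_normalizer (hn.trans (CharP.normalizer_le_normalizer_centralizer _))).trans
          inf_normalizer_le_normalizer_inf) hle)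
      rw [le_antisymm h1 s.par.core_le]
      exact hQn
    obtain ⟨A₀, hA₀, hA₀T⟩ := BlockBasic.exists_max_le (p := 2) T
    by_cases hall : ∀ A ∈ maxElementaryAbelianSubgroups 2 G, A ≤ (T : Subgroup G) →
        A ≤ centralizer (Z : Set G)
    · have hJ : thompsonSubgroupOf 2 (T : Subgroup G) ≤ Q := by
        refine (PushUp.thompsonOf_le (K := centralizer (Z : Set G) ⊓ (T : Subgroup G)) hA₀ hA₀T
          fun D hD hDT => le_inf (hall D hD hDT) hDT).trans ?_
        refine le_trans (le_of_eq ?_) ((hsect.inf_ker s.par le_rfl).le.trans inf_le_left)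
        ext g
        simp only [Subgroup.mem_inf, modCent_bot]
      refine hHB (hQn.trans ?_ )
      have h1 : thompsonSubgroupOf 2 Q = thompsonSubgroupOf 2 (T : Subgroup G) :=
        thompsonSubgroupOf_eq_of_le_of_le hJ s.par.core_le
      have h2 : H ≤ normalizer (thompsonSubgroupOf 2 (T : Subgroup G) : Set G) := by
        rw [← h1]; exact hQn.trans (normalizer_le_normalizer_thompsonSubgroupOf Q)
      have hJB := BlockBasic.thompson_le_baumann (p := 2) (T : Subgroup G)
      refine absurd ?_ (fun hc => hchar _ hJB hc ?_ h2)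
      · intro e
        have := le_thompsonSubgroupOf hA₀ hA₀T
        rw [e, le_bot_iff] at this
        obtain ⟨z, -, hz2, hz3⟩ := CharP.exists_order_prime_central (p := 2) T.isPGroup' le_rfl
          Subgroup.le_normalizer s.t_ne
        have h3 := mem_of_centralizes hA₀ (centralizer_le hA₀T hz3) (hz2 ▸ pow_orderOf_eq_one z)
        rw [this, mem_bot] at h3
        rw [h3, orderOf_one] at hz2
        omega
      · have e := thompsonSubgroupOf_eq_of_le_of_le (p := 2) (U := B) hJB (BlockBasic.baumann_le _)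
        rw [← e, thompsonSubgroupOf, subgroupOf, comap_map_eq_self_of_injective (subtype_injective _)]
        exact characteristic_iff_map_eq.2 fun e => map_thompsonSubgroup_equiv e
    push Not at hall
    obtain ⟨A, hA, hAT, hAZ⟩ := hall
    obtain ⟨hab, hexp⟩ := isElementaryAbelian_iff.1 hA.1
    have hZel : IsElementaryAbelian 2 Z := isElementaryAbelian_iff.2
      ⟨fun a ha b hb => BlockLocation.omegaCenter_comm _ ha hb,
        fun a ha => BlockLocation.pow_eq_one_of_mem_omegaCenter _ ha⟩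
    have hker : (pCoreOf 2 H).relIndex A = (centralizer (Z : Set G)).relIndex A := by
      rw [← inf_relIndex_right, ← hsect.inf_ker s.par hAT, inf_relIndex_right]
      congr 1
      ext g
      exact modCent_bot
    obtain ⟨x, hx, hxT, hxE⟩ := (hsect.facts s.par hAT hab (fun a ha => by rw [← pow_two]; exact hexp a ha)).2.2
      (Z ⊓ centralizer (A : Set G)) inf_le_left bot_le
      (fun a ha => modCent_bot.2 fun y hy => (hy.2 a ha).symm)
      (fun hAQ => hAZ fun a ha => modCent_bot.1 (hsect.core (hAQ ha)))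
      (by rw [inf_relIndex_left, hker]; exact Blocks.relIndex_le_of_max hA hZel)
    refine hxE fun g hg => modCent_bot.2 fun y hy => ?_
    obtain ⟨i, rfl⟩ := mem_zpowers_iff.1 hy
    have hxZT : x ∈ ZT := CharP.PushingUpMCL.mem_omegaOneCenter.2 ⟨s.par.core_le (hZQ hx),
      fun t ht => ((modCent_bot.1 (hxT ht)) x (mem_zpowers x)).symm,
      BlockLocation.pow_eq_one_of_mem_omegaCenter _ hx⟩
    exact hEZ hg _ (zpow_mem hxZT i)
  obtain ⟨E, W, hEH, hHER, hblk, hcen, hWQ, -⟩ := exists_seed (P := H) (R := (T : Subgroup G)) (M := H ⊓ M)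
    s.sylH s.charPH hTH s.par.lt s.par.le s.par.uniq (fun C h1 h2 h3 => hchar C h1 h2 h3) hz
  have hQW : Q ≤ centralizer (W : Set G) := hcen Q hQH (CharP.isPGroup_pCoreOf 2 H) hQn
  have hpull : ∀ L : Subgroup G, CharP.IsCharP 2 L → (T : Subgroup G) ≤ L → E ≤ L → W ≤ pCoreOf 2 L := by
    intro L hL hTL hEL
    have hHL : H ≤ L := hHER.trans (sup_le hEL hTL)
    have hsylL : CharP.IsSylIn 2 (T : Subgroup G) L := (CharP.isSylIn_top_iff.2 ⟨T, rfl⟩).mono hTL le_top
    have hOQ : pCoreOf 2 L ≤ Q := CharP.le_pCoreOf ((CharP.pCoreOf_le_of_isSylIn hsylL).trans s.tH)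
      (hHL.trans (CharP.le_normalizer_pCoreOf 2 L)) (CharP.isPGroup_pCoreOf 2 L)
    exact fun w hw => hL ⟨hTL ((hblk.wB.trans (BlockBasic.baumann_le _)) hw),
      fun q hq => ((hQW (hOQ hq)) w hw).symm⟩
  have hTW : ∀ t ∈ (T : Subgroup G), cj t W ≤ centralizer (W : Set G) := fun t ht =>
    ((cj_mono t hWQ).trans (cj_of_mem (hQn (s.tH ht))).le).trans hQW
  have hall := exists_common T s.even s.tM₀ (BlockBasic.baumann_le _) (s.baumann_norm hq) hblk hpull hTW
  set R₀ := ⨆ m : ↥M₀, cj (m : G) W with hR₀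
  have hR₀B : R₀ ≤ B := iSup_le fun m => (cj_mono _ hblk.wB).trans (cj_of_mem (s.baumann_norm hq m.2)).le
  have hR₀W : R₀ ≤ centralizer (W : Set G) := iSup_le fun m => hall m m.2
  have hWR₀ : W ≤ R₀ := le_iSup_of_le (1 : ↥M₀) (cj_one W).ge
  refine ⟨R₀, fun e => hblk.ymove ?_, hR₀B.trans (s.baumann_le hq),
    sup_le (le_normalizer_of_cj fun x hx => cj_iSup_le hx) (hHER.trans (sup_le (le_normalizer_of_cj fun e he => ?_)
      (le_normalizer_of_cj fun x hx => cj_iSup_le (s.tM₀ hx))))⟩
  · rw [le_bot_iff.1 (e ▸ hWR₀ : W ≤ ⊥), commutator_bot_left]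
    exact bot_le
  · rintro _ ⟨x, hx, rfl⟩
    obtain ⟨w, hw, hew⟩ := hblk.conj_eq (hR₀B hx) (hR₀W hx) he
    show e * x * e⁻¹ ∈ R₀
    rw [hew]
    exact mul_mem (hWR₀ hw) hx

end Setup

end Cfsg.Agent.PLocal.CommonNormal.Qrc
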