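import Cfsg.Agent.Lib.PLocal.CommonNormal.Qrc.Abelian

/-!
The qrc lemma.
-/

set_option autoImplicit false
set_option linter.unusedSectionVars false
set_option linter.style.longLine false
set_option linter.style.haveILetI false

namespace Cfsg.Agent.PLocal.CommonNormal.Qrc

open Cfsg Subgroup Cfsg.Agent.PLocal.ThompsonSubgroup
open scoped commutatorElement Pointwise

variable {G : Type*} [Group G] [Finite G]
variable {T : Sylow 2 G} {M M₀ H V : Subgroup G}

theorem le_normalizer_commutator {L X Y : Subgroup G} (hX : L ≤ normalizer (X : Set G))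
    (hY : L ≤ normalizer (Y : Set G)) : L ≤ normalizer ((⁅X, Y⁆ : Subgroup G) : Set G) :=
  le_normalizer_of_cj fun x hx => by
    rw [cj, map_commutator]
    exact (congrArg₂ _ (cj_of_mem (hX hx)) (cj_of_mem (hY hx))).le

namespace Setup

variable (s : Setup T M M₀ H V) {L S : Subgroup G} (sm : Small T M H L S)
include s sm

/-- The case where `V` is inside the core of the small subgroup. -/
theorem abelian (hq : ¬ QuadParamLE M₀ V 2)
    (hE : oddGenerated H ≤ centralizer (omegaOneCenter 2 (pCoreOf 2 H) : Set G))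
    (hVK : V ≤ pCoreOf 2 L) : Common M₀ H := by
  classical
  haveI : Fintype ↥L := Fintype.ofFinite _
  set K := pCoreOf 2 L with hK
  have hKn : L ≤ normalizer (K : Set G) := CharP.le_normalizer_pCoreOf 2 L
  have hKL : K ≤ L := CharP.pCoreOf_le 2 L
  have hKp : IsPGroup 2 ↥K := CharP.isPGroup_pCoreOf 2 L
  have hKT : K ≤ (T : Subgroup G) := sm.par.core_le.trans sm.sT
  have hKV : K ≤ normalizer (V : Set G) := hKT.trans s.tV
  set E := oddGenerated L with hEdef
  have hEL : E ≤ L := (closure_le _).2 fun x hx => hx.1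
  have hEn : L ≤ normalizer (E : Set G) := le_normalizer_oddGenerated L
  have hEH : E ≤ oddGenerated H := (closure_le _).2 fun x hx => subset_closure ⟨sm.leH hx.1, hx.2⟩
  -- the closure of the conjugates of `V`
  set U := ⨆ l : ↥L, cj (l : G) V with hU
  have hVU : V ≤ U := le_iSup_of_le (1 : ↥L) (cj_one V).ge
  have hUK : U ≤ K := iSup_le fun l => (cj_mono _ hVK).trans (cj_of_mem (hKn l.2)).le
  have hUn : L ≤ normalizer (U : Set G) := le_normalizer_of_cj fun x hx => cj_iSup_le hx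
  have hUU : U ≤ centralizer (U : Set G) := iSup_le fun a => le_centralizer_iff.1 <| iSup_le fun b => by
    have h1 := (cj_centralizer (a : G)).2 (s.cj_le_cent sm hq hVK (mul_mem (inv_mem a.2) b.2))
    rwa [cj_cj, mul_inv_cancel_left] at h1
  have hUc : ∀ u ∈ U, ∀ v ∈ U, u * v = v * u := fun u hu v hv => hUU hv u hu
  have hU2 : ∀ u ∈ U, u * u = 1 := fun u hu =>
    (Subgroup.iSup_induction (C := fun x => x ∈ U ∧ x * x = 1) (fun l : ↥L => cj (l : G) V) hu
      (fun l x hx => ⟨le_iSup (fun l : ↥L => cj (l : G) V) l hx, by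
        obtain ⟨v, hv, rfl⟩ := hx
        rw [← map_mul, s.vSq v hv, map_one]⟩) ⟨one_mem _, one_mul 1⟩
      fun x y hx hy => ⟨mul_mem hx.1 hy.1, by
        rw [mul_assoc, ← mul_assoc y, hUc y hy.1 x hx.1, mul_assoc, hy.2, mul_one, hx.2]⟩).2
  have hUel : IsElementaryAbelian 2 U := isElementaryAbelian_iff.2
    ⟨hUc, fun u hu => by rw [pow_two]; exact hU2 u hu⟩
  have hSn : S ≤ normalizer (U : Set G) := sm.par.syl.le.trans hUn
  by_cases hEU : E ≤ centralizer (U : Set G)
  · exact s.common_of_small_norm sm hE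
      ((hEU.trans (Subgroup.centralizer_le (SetLike.coe_subset_coe.2 hVU))).trans (centralizer_le_normalizer _))
  have hN : L ⊓ centralizer (U : Set G) ≤ L ⊓ M :=
    (sm.par.dichotomy inf_le_left ((le_inf Subgroup.le_normalizer
      (hUn.trans (CharP.normalizer_le_normalizer_centralizer _))).trans
        inf_normalizer_le_normalizer_inf)).resolve_right fun h => hEU (h.trans inf_le_right)
  have hcU : ∀ X : Subgroup G, X ≤ S → X ≤ centralizer (U : Set G) → X ≤ K := fun X h1 h2 =>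
    (le_inf h1 (le_inf (h1.trans sm.par.syl.le) h2)).trans
      (sm.par.inf_le_core inf_le_left ((le_inf Subgroup.le_normalizer
        (hUn.trans (CharP.normalizer_le_normalizer_centralizer _))).trans
          inf_normalizer_le_normalizer_inf) hN)
  -- an offender
  set J := thompsonSubgroupOf 2 (T : Subgroup G) with hJ
  have hJS : J ≤ S := (BlockBasic.thompson_le_baumann _).trans sm.bS
  by_cases hall : ∀ A ∈ maxElementaryAbelianSubgroups 2 G, A ≤ (T : Subgroup G) →
      A ≤ centralizer (U : Set G)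
  · obtain ⟨A₀, hA₀, hA₀T⟩ := BlockBasic.exists_max_le (p := 2) T
    have hJU : J ≤ centralizer (U : Set G) :=
      (PushUp.thompsonOf_le (K := centralizer (U : Set G) ⊓ (T : Subgroup G)) hA₀ hA₀T
        fun D hD hDT => le_inf (hall D hD hDT) hDT).trans inf_le_left
    have hJK : J ≤ K := hcU J hJS hJU
    refine s.common_of_thompson hq (s.small_norm sm ?_ ?_)
    · exact Subgroup.le_normalizer.trans (normalizer_le_normalizer_thompsonSubgroupOf (p := 2) _)
    · rw [← thompsonSubgroupOf_eq_of_le_of_le (p := 2) (U := K) hJK hKT]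
      exact hKn.trans (normalizer_le_normalizer_thompsonSubgroupOf K)
  push Not at hall
  obtain ⟨A, hA, hAT, hAU⟩ := hall
  obtain ⟨hab, hexp⟩ := isElementaryAbelian_iff.1 hA.1
  have hAS : A ≤ S := (le_thompsonSubgroupOf hA hAT).trans hJS
  have hA2 : ∀ a ∈ A, a * a = 1 := fun a ha => by rw [← pow_two]; exact hexp a ha
  obtain ⟨B, hBA, hBU, hle, hquad⟩ := exists_quadratic_offender hab hA2 hUc hU2 (hAS.trans hSn) hAU
    (Blocks.relIndex_le_of_max hA hUel)
  have hBS : B ≤ S := hBA.trans hAS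
  have hBc : ∀ a ∈ B, ∀ b ∈ B, a * b = b * a := fun a ha b hb => hab a (hBA ha) b (hBA hb)
  have hB2 : ∀ a ∈ B, a * a = 1 := fun a ha => hA2 a (hBA ha)
  set a := K.relIndex B with ha
  set a₀ := (centralizer (U : Set G)).relIndex (B ⊓ K) with ha₀
  have hprod : (centralizer (U : Set G)).relIndex B = a₀ * a := by
    rw [ha₀, inf_comm B, ha, relIndex_inf_mul_relIndex, ← inf_relIndex_right,
      ← inf_relIndex_right (centralizer (U : Set G) ⊓ K)]
    refine congrArg (fun X => X.relIndex B) (le_antisymm ?_ (inf_le_inf_right B inf_le_left))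
    exact le_inf (le_inf inf_le_left (hcU _ (inf_le_right.trans hBS) inf_le_left)) inf_le_right
  have hlt : a₀ < a := by
    have hpos : 1 < a₀ * a := hprod ▸ Nat.one_lt_iff_ne_zero_and_ne_one.2
      ⟨index_ne_zero_of_finite, fun e => hBU (relIndex_eq_one.1 e)⟩
    have hch := s.relIndex_cent_conjs sm hq (D₀ := B ⊓ K) inf_le_right (fun x hx y hy => hBc x hx.1 y hy.1)
      (fun x hx => hB2 x hx.1) (fun l hl => le_bot_iff.1 ((commutator_mono (commutator_mono
        (le_iSup (fun l : ↥L => cj (l : G) V) ⟨l, hl⟩) inf_le_left) inf_le_left).trans hquad.le))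
      Finset.univ (B ⊓ K) le_rfl
    rw [Finset.sup_univ_eq_iSup] at hch
    rcases hch with h1 | h1
    · have h1' : a₀ = 1 := h1
      rw [h1', one_mul] at hpos
      omega
    · have h2 : a₀ * a₀ < a₀ * a := by
        rw [← pow_two, ← hprod]
        exact h1.trans_le ((relIndex_le_of_le_left (Subgroup.centralizer_le (SetLike.coe_subset_coe.2 inf_le_left))
          index_ne_zero_of_finite).trans hle)
      exact Nat.lt_of_mul_lt_mul_left h2
  -- at most one noncentral section
  have hm : ∀ {Y₁ Y₂ W : Subgroup G}, Sect L Y₁ Y₂ → W ≤ modCent B Y₂ → a ≤ W.relIndex Y₁ := by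
    intro Y₁ Y₂ W sect hW
    have h1 := (sect.facts sm.par hBS hBc hB2).1 (Y₁ ⊓ modCent B Y₂) inf_le_left
      (le_inf sect.le fun y hy => ⟨Subgroup.le_normalizer hy, fun b hb => by
        rw [show y * b * y⁻¹ * b⁻¹ = y * (b * y⁻¹ * b⁻¹) by group]
        exact mul_mem hy ((mem_normalizer_iff.1 (sect.nN (sm.par.syl.le (hBS hb))) _).1 (inv_mem hy))⟩)
      fun b hb => ⟨sect.nN (sm.par.syl.le (hBS hb)), fun x hx => by
        rw [show b * x * b⁻¹ * x⁻¹ = (x * b * x⁻¹ * b⁻¹)⁻¹ by group]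
        exact inv_mem (hx.2.2 b hb)⟩
    refine h1.trans ?_
    rw [← inf_relIndex_right W Y₁]
    exact relIndex_le_of_le_left (le_inf inf_le_right (inf_le_left.trans hW)) index_ne_zero_of_finite
  have hsec : ∀ X : Subgroup G, X ≤ U → L ≤ normalizer (X : Set G) →
      E ≤ modCent X ⊥ ∨ E ≤ modCent U X := by
    intro X hXU hXn
    by_contra hboth
    push Not at hboth
    obtain ⟨Y₁, Y₂, -, hY₁, sect, -⟩ := sm.par.exists_chief (bot_le : (⊥ : Subgroup G) ≤ X) (hXU.trans hUK)
      hXn (by rw [normalizer_eq_top]; exact le_top) hboth.1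
    obtain ⟨Z₁, Z₂, hXZ, hZ₁, sect', -⟩ := sm.par.exists_chief hXU hUK hUn hXn hboth.2
    have h1 : a ≤ (centralizer (B : Set G)).relIndex X := by
      refine le_trans ?_ (relIndex_le_of_le_right hY₁ index_ne_zero_of_finite)
      rw [← inf_relIndex_right]
      exact hm (W := centralizer (B : Set G) ⊓ Y₁) sect fun y hy => centralizer_le_modCent hy.1 (sect.nN (sect.leL hy.2))
    set W := (centralizer (B : Set G) ⊓ U) ⊔ X with hW
    have h2 : a ≤ W.relIndex U := by
      refine le_trans (hm (W := W) sect' (sup_le (fun y hy => centralizer_le_modCent hy.1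
        (sect'.nN (hKL (hUK hy.2)))) fun x hx => ⟨sect'.nN (hKL (hUK (hXU hx))), fun b hb => ?_⟩))
        (relIndex_le_of_le_right hZ₁ index_ne_zero_of_finite)
      rw [show x * b * x⁻¹ * b⁻¹ = x * (b * x⁻¹ * b⁻¹) by group]
      exact hXZ (mul_mem hx ((mem_normalizer_iff.1 (hXn (sm.par.syl.le (hBS hb))) _).1 (inv_mem hx)))
    have h3 : (centralizer (B : Set G)).relIndex (W ⊓ U) * W.relIndex U =
        (centralizer (B : Set G)).relIndex U := by
      rw [relIndex_inf_mul_relIndex, ← inf_relIndex_right, ← inf_relIndex_right (centralizer (B : Set G))]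
      exact congrArg (fun Z => Z.relIndex U) (le_antisymm (inf_le_inf_right U inf_le_left)
        (le_inf (le_inf inf_le_left le_sup_left) inf_le_right))
    have h4 : a * a ≤ a₀ * a := by
      rw [← hprod]
      exact (Nat.mul_le_mul (h1.trans (relIndex_le_of_le_right (le_inf le_sup_right hXU)
        index_ne_zero_of_finite)) h2).trans (h3.le.trans hle)
    exact (Nat.mul_lt_mul_of_pos_right hlt (by omega)).not_ge h4
  -- the commutator with the core
  set Y := ⁅U, K⁆ with hY
  have hYU : Y ≤ U := Subgroup.commutator_le.2 fun u hu k hk => by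
    rw [commutatorElement_def, show u * k * u⁻¹ * k⁻¹ = u * (k * u⁻¹ * k⁻¹) by group]
    exact mul_mem hu ((mem_normalizer_iff.1 (hUn (hKL hk)) _).1 (inv_mem hu))
  have hYn : L ≤ normalizer (Y : Set G) := le_normalizer_commutator hUn hKn
  by_cases hUY : E ≤ modCent U Y
  · have hWn : L ≤ normalizer ((V ⊔ Y : Subgroup G) : Set G) := by
      refine sm.par.normal_of (le_normalizer_of_cj fun e he => ?_) (le_normalizer_of_cj fun t ht => ?_)
      · rw [cj, Subgroup.map_sup]
        refine sup_le ?_ ((cj_of_mem (hYn (hEL he))).le.trans le_sup_right)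
        rintro _ ⟨v, hv, rfl⟩
        show e * v * e⁻¹ ∈ _
        have h1 := mul_mem (mem_sup_right (S := V) ((hUY he).2 v (hVU hv))) (mem_sup_left (T := Y) hv)
        rwa [inv_mul_cancel_right] at h1
      · rw [cj, Subgroup.map_sup]
        exact (congrArg₂ _ (cj_of_mem (s.tV (sm.sT ht))) (cj_of_mem (hYn (sm.par.syl.le ht)))).le
    have hUW : U ≤ V ⊔ Y := iSup_le fun l => (cj_mono _ le_sup_left).trans (cj_of_mem (hWn l.2)).le
    have hUV : U ≤ V := le_of_moved hKp hUc hU2 (hKL.trans hUn) hVU hKV le_rfl hUW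
    exact s.common_of_small_norm sm hE (hEL.trans
      (le_normalizer_of_cj fun l hl => (le_iSup (fun l : ↥L => cj (l : G) V) ⟨l, hl⟩).trans hUV))
  exfalso
  have hEY : E ≤ centralizer (Y : Set G) := fun e he =>
    modCent_bot.1 (((hsec Y hYU hYn).resolve_right hUY) he)
  -- the commutator of the core with the elements of odd order
  set P := ⁅K, E⁆ with hP
  have hPK : P ≤ K := Subgroup.commutator_le.2 fun k hk e he => by
    rw [commutatorElement_def, show k * e * k⁻¹ * e⁻¹ = k * (e * k⁻¹ * e⁻¹) by group]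
    exact mul_mem hk ((mem_normalizer_iff.1 (hKn (hEL he)) _).1 (inv_mem hk))
  have hPE : P ≤ E := Subgroup.commutator_le.2 fun k hk e he => by
    rw [commutatorElement_def]
    exact mul_mem ((mem_normalizer_iff.1 (hEn (hKL hk)) e).1 he) (inv_mem he)
  have hPn : L ≤ normalizer (P : Set G) := le_normalizer_commutator hKn hEn
  have hPL : P ≤ L := hPK.trans hKL
  have hPU : ¬ P ≤ centralizer (U : Set G) := by
    intro hle'
    set X := U ⊓ centralizer (K : Set G) with hX
    have hXn : L ≤ normalizer (X : Set G) :=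
      (le_inf hUn (hKn.trans (CharP.normalizer_le_normalizer_centralizer _))).trans
        inf_normalizer_le_normalizer_inf
    have hXQ : X ≤ omegaOneCenter 2 (pCoreOf 2 H) :=
      s.omega_center_le ((inf_le_left.trans (hUK.trans hKL)).trans sm.leH)
        (inf_le_right.trans (Subgroup.centralizer_le (SetLike.coe_subset_coe.2 (s.qK sm))))
        fun x hx => by rw [pow_two]; exact hU2 x hx.1
    have h3 : ⁅⁅E, U⁆, K⁆ = ⊥ := commutator_commutator_eq_bot_of_rotate
      (commutator_eq_bot_iff_le_centralizer.2 (le_centralizer_iff.1 hEY))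
      (commutator_eq_bot_iff_le_centralizer.2 hle')
    refine hEU ((closure_le _).2 fun e he => modCent_bot.1 ?_)
    have heE : e ∈ E := subset_closure he
    refine mem_modCent_of_stable (Y := X) (hKp.to_le (inf_le_left.trans hUK)) he.2 ⟨hXn he.1, fun u hu => ?_⟩
      (modCent_bot.2 ((Subgroup.centralizer_le (SetLike.coe_subset_coe.2 hXQ)) (hE (hEH heE))))
      (by rw [normalizer_eq_top]; exact le_top)
    exact Subgroup.mem_inf.2 ⟨mul_mem ((mem_normalizer_iff.1 (hUn he.1) u).1 hu) (inv_mem hu),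
      commutator_eq_bot_iff_le_centralizer.1 h3 (commutator_mem_commutator heE hu)⟩
  set Y' := ⁅U, P⁆ with hY'
  have hY'Y : Y' ≤ Y := commutator_mono le_rfl hPK
  have hY'ne : Y' ≠ ⊥ := fun e => hPU (le_centralizer_iff.1 (commutator_eq_bot_iff_le_centralizer.1 e))
  have hY'n : L ≤ normalizer (Y' : Set G) := le_normalizer_commutator hUn hPn
  obtain ⟨Y₀, hY₀Y', hY₀ne, hSY₀, hhalf⟩ := exists_half sm.par.syl.isPGroup
    (fun u hu v hv => hUc u (hYU (hY'Y hu)) v (hYU (hY'Y hv))) (fun u hu => hU2 u (hYU (hY'Y hu)))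
    (sm.par.syl.le.trans hY'n) hY'ne
  have hY₀n : L ≤ normalizer (Y₀ : Set G) := sm.par.normal_of
    ((hEY.trans (Subgroup.centralizer_le (SetLike.coe_subset_coe.2 (hY₀Y'.trans hY'Y)))).trans
      (centralizer_le_normalizer _)) hSY₀
  have hcomm : ∀ p ∈ P, ∀ u ∈ U, p * u * p⁻¹ * u⁻¹ ∈ Y' := fun p hp u hu => by
    rw [show p * u * p⁻¹ * u⁻¹ = ⁅u, p⁆⁻¹ by rw [commutatorElement_def]; group]
    exact inv_mem (commutator_mem_commutator hu hp)
  set X₀ := U ⊓ modCent P Y₀ with hX₀
  have hX₀n : L ≤ normalizer (X₀ : Set G) :=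
    (le_inf hUn (le_normalizer_modCent hPn hY₀n)).trans inf_normalizer_le_normalizer_inf
  have hEX : ¬ E ≤ modCent U X₀ := by
    intro hEX
    set P₀ := P ⊓ modCent U Y₀ with hP₀
    have hP₀n : L ≤ normalizer (P₀ : Set G) :=
      (le_inf hPn (le_normalizer_modCent hUn hY₀n)).trans inf_normalizer_le_normalizer_inf
    have h1 : ∀ e ∈ E, e ∈ modCent P P₀ := by
      intro e he
      refine ⟨hP₀n (hEL he), fun p hp => ?_⟩
      have hep : e * p * e⁻¹ ∈ P := (mem_normalizer_iff.1 (hPn (hEL he)) p).1 hp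
      have hqP : e * p * e⁻¹ * p⁻¹ ∈ P := mul_mem hep (inv_mem hp)
      refine Subgroup.mem_inf.2 ⟨hqP, hY₀n (hPL hqP), fun u hu => ?_⟩
      set w := p⁻¹ * u * p with hw
      have hwU : w ∈ U := (mem_normalizer_iff''.1 (hUn (hPL hp)) u).1 hu
      have hw'U : e⁻¹ * w * e ∈ U := (mem_normalizer_iff''.1 (hUn (hEL he)) w).1 hwU
      set x := e⁻¹ * w * e * w⁻¹ with hx
      have hxX : x ∈ X₀ := by
        have := (hEX (inv_mem he)).2 w hwU
        rwa [inv_inv] at this
      set d := p * (e⁻¹ * w * e) * p⁻¹ * (e⁻¹ * w * e)⁻¹ with hd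
      have hd1 : e * d * e⁻¹ = d :=
        mul_inv_eq_iff_eq_mul.2 ((hEY he) d (hY'Y (hcomm p hp _ hw'U))).symm
      have hc : p * x * p⁻¹ * x⁻¹ ∈ Y₀ := by
        rw [show p * x * p⁻¹ * x⁻¹ = (x * p * x⁻¹ * p⁻¹)⁻¹ by group]
        exact inv_mem (hxX.2.2 p hp)
      have hd2 : d = p * x * p⁻¹ * x⁻¹ * (p * w * p⁻¹ * w⁻¹) := by
        rw [hd, show e⁻¹ * w * e = x * w by rw [hx]; group,
          show p * (x * w) * p⁻¹ * (x * w)⁻¹ =
            (p * x * p⁻¹ * x⁻¹) * (x * (p * w * p⁻¹ * w⁻¹) * x⁻¹) by group,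
          hUc x hxX.1 _ (hYU (hY'Y (hcomm p hp w hwU))), mul_inv_cancel_right]
      have h5 : e * p * e⁻¹ * p⁻¹ * u * (e * p * e⁻¹ * p⁻¹)⁻¹ * u⁻¹ = e * d * e⁻¹ * (w * u⁻¹) := by
        rw [hd, hw]; group
      rw [h5, hd1, hd2, show p * w * p⁻¹ = u by rw [hw]; group,
        show p * x * p⁻¹ * x⁻¹ * (u * w⁻¹) * (w * u⁻¹) = p * x * p⁻¹ * x⁻¹ by group]
      exact hc
    have h2 : P ≤ P₀ := by
      refine Subgroup.commutator_le.2 fun k hk e he => ?_
      have h3 : E ≤ modCent K P₀ := (closure_le _).2 fun y hy =>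
        mem_modCent_of_stable (Y := P) (hKp.to_le hPK) hy.2 ⟨hPn hy.1, fun j hj => by
          rw [show y * j * y⁻¹ * j⁻¹ = ⁅j, y⁆⁻¹ by rw [commutatorElement_def]; group]
          exact inv_mem (commutator_mem_commutator hj (subset_closure hy))⟩
          (h1 y (subset_closure hy)) (hPL.trans hP₀n)
      rw [commutatorElement_def, show k * e * k⁻¹ * e⁻¹ = (e * k * e⁻¹ * k⁻¹)⁻¹ by group]
      exact inv_mem ((h3 he).2 k hk)
    refine hY₀ne (Subgroup.commutator_le.2 fun u hu p hp => ?_)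
    rw [commutatorElement_def, show u * p * u⁻¹ * p⁻¹ = (p * u * p⁻¹ * u⁻¹)⁻¹ by group]
    exact inv_mem ((h2 hp).2.2 u hu)
  have hX₀P : X₀ ≤ centralizer (P : Set G) := le_centralizer_iff.1 fun p hp =>
    modCent_bot.1 (((hsec X₀ inf_le_left hX₀n).resolve_right hEX) (hPE hp))
  have hbound := relIndex_cent_le_of_pairing hVU hUc hU2 (hPL.trans hUn)
    ((hY₀Y'.trans hY'Y).trans hYU) (hPL.trans hY₀n) hcomm hhalf hX₀P
  have hPY : P ≤ centralizer (Y : Set G) := hPE.trans hEY
  -- the action of `P` on `U` is quadratic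
  have hfix : ∀ q ∈ P, ∀ p ∈ P, ∀ u ∈ U, q * (p * u * p⁻¹ * u⁻¹) * q⁻¹ = p * u * p⁻¹ * u⁻¹ :=
    fun q hq' p hp u hu => mul_inv_eq_iff_eq_mul.2 ((hPY hq') _ (hY'Y (hcomm p hp u hu))).symm
  have hswap : ∀ p ∈ P, ∀ q ∈ P, ∀ u ∈ U, p * q * u * (p * q)⁻¹ =
      (q * u * q⁻¹ * u⁻¹) * (p * u * p⁻¹ * u⁻¹) * u := fun p hp q hq' u hu => by
    rw [show p * q * u * (p * q)⁻¹ = p * (q * u * q⁻¹ * u⁻¹) * p⁻¹ * (p * u * p⁻¹ * u⁻¹) * u by group,
      hfix p hp q hq' u hu]
  refine hq ⟨P, (hPK.trans hKT).trans s.tM₀, ⟨fun hPV => hPU ?_, fun p hp v hv => ?_,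
    fun p hp q hq' v hv => ?_⟩, le_bot_iff.1 ?_, ?_⟩
  · refine le_centralizer_iff.1 (iSup_le fun l => le_centralizer_iff.1 ?_)
    exact (cj_of_mem (hPn l.2)).ge.trans ((cj_centralizer (l : G)).2 hPV)
  · have h1 := hswap p hp p hp v (hVU hv)
    rw [hU2 _ (hYU (hY'Y (hcomm p hp v (hVU hv)))), one_mul, mul_inv_eq_iff_eq_mul] at h1
    rw [pow_two]
    exact h1.symm
  · set w := (q * p)⁻¹ * v * (q * p) with hw
    have hwU : w ∈ U := (mem_normalizer_iff''.1 (hUn (mul_mem (hPL hq') (hPL hp))) v).1 (hVU hv)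
    have h1 := hswap p hp q hq' w hwU
    rw [hUc _ (hYU (hY'Y (hcomm q hq' w hwU))) _ (hYU (hY'Y (hcomm p hp w hwU))), ← hswap q hq' p hp w hwU,
      show q * p * w * (q * p)⁻¹ = v by rw [hw]; group] at h1
    refine (mul_inv_eq_iff_eq_mul.1 ?_).symm
    rw [show p * q * p⁻¹ * q⁻¹ * v * (p * q * p⁻¹ * q⁻¹)⁻¹ = p * q * w * (p * q)⁻¹ by rw [hw]; group]
    exact h1
  · exact (commutator_mono (commutator_mono hVU le_rfl) le_rfl).trans ((commutator_mono hY'Y le_rfl).trans
      (commutator_eq_bot_iff_le_centralizer.2 (le_centralizer_iff.1 hPY)).le)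
  · rw [inf_relIndex_left]
    exact hbound.trans (Nat.le_self_pow two_ne_zero _)

end Setup

/-- The qrc lemma. -/
theorem qrc (s : Setup T M M₀ H V) :
    Common M₀ H ∨ (¬ V ≤ pCoreOf 2 H ∧ CubicParamLE M₀ V 2) ∨ QuadParamLE M₀ V 2 := by
  by_cases hq : QuadParamLE M₀ V 2
  · exact Or.inr (Or.inr hq)
  by_cases hHB : H ≤ normalizer (baumannSubgroupOf 2 (T : Subgroup G) : Set G)
  · exact Or.inl (s.common_of_baumann hq hHB)
  by_cases hE : oddGenerated H ≤ centralizer (omegaOneCenter 2 (pCoreOf 2 H) : Set G)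
  · obtain ⟨L, S, sm⟩ := s.exists_small hHB
    by_cases hVK : V ≤ pCoreOf 2 L
    · exact Or.inl (s.abelian sm hq hE hVK)
    · exact Or.inr (Or.inl (s.cubic sm hq hVK))
  · exact Or.inl (s.common_of_moved hq hE)

end Cfsg.Agent.PLocal.CommonNormal.Qrc
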