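import Cfsg.Agent.Lib.PLocal.Natural.Move
import Cfsg.Agent.Lib.CharP.Sylow
import Mathlib.LinearAlgebra.Dual.Lemmas
import Mathlib.RepresentationTheory.Basic

/-!
Offenders of a minimal parabolic group on a module are never strict, and neither are they on the dual.
-/

set_option autoImplicit false
set_option linter.unusedSectionVars false
set_option linter.style.longLine false
set_option linter.style.haveILetI false

namespace Cfsg.Agent.PLocal.CommonNormal.Qrc

open Cfsg.Lib.Offender Cfsg.Agent.FFNatural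

section linear

variable {P V : Type*} [Group P] [Finite P] [AddCommGroup V] [Module (ZMod 2) V] [Finite V]
variable {f : Representation (ZMod 2) P V} {T : Sylow 2 P} {M : Subgroup P}

/-- No offender is strict. -/
theorem card_mul_fixed_le (hinj : ∀ g, f g = 1 → g = 1) (hM : IsCoatom M) (hle : (T : Subgroup P) ≤ M)
    (huniq : ∀ K : Subgroup P, IsCoatom K → (T : Subgroup P) ≤ K → K = M)
    (hcore : ∀ N : Subgroup P, N.Normal → IsPGroup 2 N → N = ⊥) {A : Subgroup P}
    (hc : ∀ a ∈ A, ∀ b ∈ A, a * b = b * a) (hexp : ∀ a ∈ A, a ^ 2 = 1) :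
    Nat.card ↥A * Nat.card ↥(fixed f A) ≤ Nat.card V := by
  rcases eq_or_ne A ⊥ with rfl | hA
  · rw [Subgroup.card_bot, one_mul]
    exact Nat.card_le_card_of_injective _ Subtype.val_injective
  by_contra hlt
  have hoff : IsOff f A := ⟨hA, hc, hexp, (not_le.1 hlt).le⟩
  obtain ⟨q, F⟩ := exists_frame (T := T) hinj hM hle huniq hcore
    (sylow_fixed_not_le hM hle huniq hcore V f hinj ⟨A, hoff⟩) ⟨A, hoff⟩
  obtain ⟨S, hS⟩ := hoff.isPGroup.exists_le_sylow
  obtain ⟨g, hg⟩ := MulAction.exists_smul_eq P T S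
  have hsyl : IsSyl (T : Subgroup P) (S : Subgroup P) := ⟨g, by rw [← hg]; rfl⟩
  exact (not_le.1 hlt).ne (F.offender_spec hsyl hoff hS).2.2

theorem fixed_dual (A : Subgroup P) :
    fixed f.dual A =
      (Submodule.span (ZMod 2) {x | ∃ a ∈ A, ∃ v, f a v - v = x}).dualAnnihilator := by
  ext φ
  rw [Submodule.mem_dualAnnihilator]
  constructor
  · intro h
    refine fun w hw => Submodule.span_induction ?_ (map_zero φ) ?_ ?_ hw
    · rintro x ⟨a, ha, v, rfl⟩
      have h1 : φ (f a⁻¹⁻¹ v) = φ v := LinearMap.congr_fun (h a⁻¹ (inv_mem ha)) v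
      rw [inv_inv] at h1
      rw [map_sub, h1, sub_self]
    · intro x y _ _ hx hy; rw [map_add, hx, hy, add_zero]
    · intro c x _ hx; rw [map_smul, hx, smul_zero]
  · intro h a ha
    refine LinearMap.ext fun v => ?_
    show φ (f a⁻¹ v) = φ v
    rw [← sub_eq_zero, ← map_sub]
    exact h _ (Submodule.subset_span ⟨a⁻¹, inv_mem ha, v, rfl⟩)

/-- An elementary abelian subgroup moves at least its order. -/
theorem card_le_span (hinj : ∀ g, f g = 1 → g = 1) (hM : IsCoatom M) (hle : (T : Subgroup P) ≤ M)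
    (huniq : ∀ K : Subgroup P, IsCoatom K → (T : Subgroup P) ≤ K → K = M)
    (hcore : ∀ N : Subgroup P, N.Normal → IsPGroup 2 N → N = ⊥) {A : Subgroup P}
    (hc : ∀ a ∈ A, ∀ b ∈ A, a * b = b * a) (hexp : ∀ a ∈ A, a ^ 2 = 1) :
    Nat.card ↥A ≤ Nat.card ↥(Submodule.span (ZMod 2) {x | ∃ a ∈ A, ∃ v, f a v - v = x}) := by
  haveI : Finite (Module.Dual (ZMod 2) V) := Module.finite_of_finite (ZMod 2)
  have hinj' : ∀ g, f.dual g = 1 → g = 1 := fun g hg => inv_eq_one.1 (hinj _ (LinearMap.ext fun v =>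
    (Module.forall_dual_apply_eq_zero_iff (ZMod 2) (f g⁻¹ v - v)).1 (fun φ => by
      have h1 : φ (f g⁻¹ v) = φ v := LinearMap.congr_fun (LinearMap.congr_fun hg φ) v
      rw [map_sub, h1, sub_self]) |> sub_eq_zero.1))
  have h := card_mul_fixed_le (f := f.dual) hinj' hM hle huniq hcore hc hexp
  rw [fixed_dual] at h
  set W := Submodule.span (ZMod 2) {x | ∃ a ∈ A, ∃ v, f a v - v = x}
  have h2 : Nat.card (Module.Dual (ZMod 2) V) = Nat.card ↥W * Nat.card ↥W.dualAnnihilator := by
    rw [Module.natCard_eq_pow_finrank (K := ZMod 2) (V := Module.Dual (ZMod 2) V),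
      Module.natCard_eq_pow_finrank (K := ZMod 2) (V := ↥W),
      Module.natCard_eq_pow_finrank (K := ZMod 2) (V := ↥W.dualAnnihilator), ← pow_add,
      Subspace.finrank_add_finrank_dualAnnihilator_eq, Subspace.dual_finrank_eq]
  rw [h2] at h
  exact Nat.le_of_mul_le_mul_right h Nat.card_pos

end linear

section action

variable {L N : Type*} [Group L] [Finite L] [CommGroup N] [Finite N] [Module (ZMod 2) (Additive N)]
variable (θ : L →* MulAut N)

theorem card_map (A : Subgroup L) : Nat.card ↥(A.map θ.rangeRestrict) = θ.ker.relIndex A := by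
  have hr : (θ.rangeRestrict.comp A.subtype).range = A.map θ.rangeRestrict := by
    rw [MonoidHom.range_comp, Subgroup.range_subtype]
  rw [← hr, ← Subgroup.index_ker, ← MonoidHom.comap_ker, MonoidHom.ker_rangeRestrict]
  rfl

/-- A minimal parabolic group `L` acting on an elementary abelian `2`-group, the core acting trivially. -/
structure Acts (T : Sylow 2 L) (M : Subgroup L) : Prop where
  coatom : IsCoatom M
  le : (T : Subgroup L) ≤ M
  uniq : ∀ X : Subgroup L, (T : Subgroup L) ≤ X → X ≠ ⊤ → X ≤ M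
  ker_le : θ.ker ≤ M
  core : ∀ D : Subgroup L, D.Normal → θ.ker ≤ D → IsPGroup 2 ↥(D.map θ.rangeRestrict) → D ≤ θ.ker

variable {θ} {T : Sylow 2 L} {M : Subgroup L} (h : Acts θ T M)
include h

theorem Acts.reduce : IsCoatom (M.map θ.rangeRestrict) ∧
    (∀ K : Subgroup θ.range, IsCoatom K → (T : Subgroup L).map θ.rangeRestrict ≤ K →
      K = M.map θ.rangeRestrict) ∧
    (∀ D : Subgroup θ.range, D.Normal → IsPGroup 2 D → D = ⊥) := by
  have hs := θ.rangeRestrict_surjective
  have hcM : (M.map θ.rangeRestrict).comap θ.rangeRestrict = M := by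
    rw [Subgroup.comap_map_eq, MonoidHom.ker_rangeRestrict, sup_eq_left.2 h.ker_le]
  have hco : IsCoatom (M.map θ.rangeRestrict) := by
    refine ⟨fun e => h.coatom.1 (by rw [← hcM, e, Subgroup.comap_top]), fun Y hY => ?_⟩
    have h1 : M < Y.comap θ.rangeRestrict := by
      rw [← hcM]
      exact lt_of_le_of_ne (Subgroup.comap_mono hY.le) fun e => hY.ne (Subgroup.comap_injective hs e)
    rw [← Subgroup.map_comap_eq_self_of_surjective hs Y, h.coatom.2 _ h1, ← MonoidHom.range_eq_map,
      MonoidHom.range_eq_top.2 hs]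
  refine ⟨hco, fun K hK hTK => ?_, fun D hD hDp => ?_⟩
  · have h1 : K.comap θ.rangeRestrict ≠ ⊤ := fun e =>
      hK.1 (Subgroup.comap_injective hs (e.trans (Subgroup.comap_top _).symm))
    have h3 : K ≤ M.map θ.rangeRestrict := by
      rw [← Subgroup.map_comap_eq_self_of_surjective hs K]
      exact Subgroup.map_mono (h.uniq _ (Subgroup.map_le_iff_le_comap.1 hTK) h1)
    exact ((hK.le_iff.1 h3).resolve_left hco.1).symm
  · have h1 := h.core _ (hD.comap θ.rangeRestrict)
      (by rw [← MonoidHom.ker_rangeRestrict]; exact Subgroup.ker_le_comap _ _)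
      (by rwa [Subgroup.map_comap_eq_self_of_surjective hs])
    rw [← Subgroup.map_comap_eq_self_of_surjective hs D, Subgroup.map_eq_bot_iff,
      MonoidHom.ker_rangeRestrict]
    exact h1

/-- The two bounds: the fixed points have at least the index of the image, and so has what is moved. -/
theorem Acts.bounds {A : Subgroup L} (hc : ∀ a ∈ A, ∀ b ∈ A, a * b = b * a) (hexp : ∀ a ∈ A, a ^ 2 = 1)
    {C D : Subgroup N} (hC : ∀ n ∈ C, ∀ a ∈ A, θ a n = n) (hD : ∀ a ∈ A, ∀ n, θ a n / n ∈ D) :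
    θ.ker.relIndex A ≤ C.index ∧ θ.ker.relIndex A ≤ Nat.card ↥D := by
  obtain ⟨hco, huq, hcore⟩ := h.reduce
  let f : Representation (ZMod 2) θ.range (Additive N) := actRep θ.range.subtype
  let Tb : Sylow 2 θ.range := T.mapSurjective θ.rangeRestrict_surjective
  have hTb : (Tb : Subgroup θ.range) = (T : Subgroup L).map θ.rangeRestrict := rfl
  have hinj : ∀ g, f g = 1 → g = 1 := fun g hg => Subtype.ext (MulEquiv.ext fun n => by
    have h1 := LinearMap.congr_fun hg (Additive.ofMul n)
    exact congrArg Additive.toMul h1)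
  have hcA : ∀ a ∈ A.map θ.rangeRestrict, ∀ b ∈ A.map θ.rangeRestrict, a * b = b * a := by
    rintro _ ⟨a, ha, rfl⟩ _ ⟨b, hb, rfl⟩
    rw [← map_mul, hc a ha b hb, map_mul]
  have heA : ∀ a ∈ A.map θ.rangeRestrict, a ^ 2 = 1 := by
    rintro _ ⟨a, ha, rfl⟩
    rw [← map_pow, hexp a ha, map_one]
  constructor
  · have h1 := card_mul_fixed_le (f := f) hinj hco (hTb ▸ Subgroup.map_mono h.le)
      (fun K hK hTK => huq K hK (hTb ▸ hTK)) hcore hcA heA
    rw [card_map] at h1
    have h2 : Nat.card ↥C ≤ Nat.card ↥(fixed f (A.map θ.rangeRestrict)) := by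
      refine Nat.card_le_card_of_injective (fun n => ⟨Additive.ofMul (n : N), ?_⟩) fun a b e =>
        Subtype.ext (Additive.ofMul.injective (Subtype.ext_iff.1 e :))
      rintro _ ⟨a, ha, rfl⟩
      exact congrArg Additive.ofMul (hC _ n.2 a ha)
    refine Nat.le_of_mul_le_mul_right ?_ (Nat.card_pos (α := ↥C))
    refine (Nat.mul_le_mul_left _ h2).trans (h1.trans (le_of_eq ?_))
    rw [Nat.card_congr Additive.toMul, ← Subgroup.index_mul_card C]
  · have h1 := card_le_span (f := f) hinj hco (hTb ▸ Subgroup.map_mono h.le)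
      (fun K hK hTK => huq K hK (hTb ▸ hTK)) hcore hcA heA
    rw [card_map] at h1
    refine h1.trans (le_trans (Nat.card_mono (t := ((Subgroup.toAddSubgroup D) : Set (Additive N)))
      (Set.toFinite _) ?_) (le_of_eq (Nat.card_congr ?_)))
    · refine SetLike.coe_subset_coe.2 (Submodule.span_le.2 ?_ : _ ≤
        AddSubgroup.toZModSubmodule 2 (Subgroup.toAddSubgroup D))
      rintro _ ⟨_, ⟨a, ha, rfl⟩, v, rfl⟩
      exact hD a ha v.toMul
    · exact { toFun := fun d => ⟨(d.1 : Additive N).toMul, d.2⟩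
              invFun := fun d => ⟨Additive.ofMul d.1, d.2⟩
              left_inv := fun _ => rfl
              right_inv := fun _ => rfl }

/-- With an offender, the fixed points of the Sylow subgroup are moved. -/
theorem Acts.exists_moved {A : Subgroup L} (hc : ∀ a ∈ A, ∀ b ∈ A, a * b = b * a)
    (hexp : ∀ a ∈ A, a ^ 2 = 1) (hAk : ¬ A ≤ θ.ker) {C : Subgroup N}
    (hC : ∀ n ∈ C, ∀ a ∈ A, θ a n = n) (hoff : C.index ≤ θ.ker.relIndex A) :
    ∃ n : N, (∀ t ∈ (T : Subgroup L), θ t n = n) ∧ ∃ g, θ g n ≠ n := by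
  obtain ⟨hco, huq, hcore⟩ := h.reduce
  let f : Representation (ZMod 2) θ.range (Additive N) := actRep θ.range.subtype
  let Tb : Sylow 2 θ.range := T.mapSurjective θ.rangeRestrict_surjective
  have hTb : (Tb : Subgroup θ.range) = (T : Subgroup L).map θ.rangeRestrict := rfl
  have hinj : ∀ g, f g = 1 → g = 1 := fun g hg => Subtype.ext (MulEquiv.ext fun n => by
    have h1 := LinearMap.congr_fun hg (Additive.ofMul n)
    exact congrArg Additive.toMul h1)
  have hA : IsOff f (A.map θ.rangeRestrict) := by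
    refine ⟨fun e => hAk ?_, ?_, ?_, ?_⟩
    · rwa [Subgroup.map_eq_bot_iff, MonoidHom.ker_rangeRestrict] at e
    · rintro _ ⟨a, ha, rfl⟩ _ ⟨b, hb, rfl⟩
      rw [← map_mul, hc a ha b hb, map_mul]
    · rintro _ ⟨a, ha, rfl⟩
      rw [← map_pow, hexp a ha, map_one]
    · have h2 : Nat.card ↥C ≤ Nat.card ↥(fixed f (A.map θ.rangeRestrict)) := by
        refine Nat.card_le_card_of_injective (fun n => ⟨Additive.ofMul (n : N), ?_⟩) fun a b e =>
          Subtype.ext (Additive.ofMul.injective (Subtype.ext_iff.1 e :))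
        rintro _ ⟨a, ha, rfl⟩
        exact congrArg Additive.ofMul (hC _ n.2 a ha)
      rw [Nat.card_congr Additive.toMul, card_map, ← Subgroup.index_mul_card C]
      exact Nat.mul_le_mul hoff h2
  obtain ⟨v, hv, hv'⟩ := SetLike.not_le_iff_exists.1 (sylow_fixed_not_le (T := Tb) hco
    (hTb ▸ Subgroup.map_mono h.le) (fun K hK hTK => huq K hK (hTb ▸ hTK)) hcore _ f hinj ⟨_, hA⟩)
  refine ⟨v.toMul, fun t ht => ?_, ?_⟩
  · exact congrArg Additive.toMul (hv _ (hTb.ge ⟨t, ht, rfl⟩))
  · by_contra hall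
    push Not at hall
    refine hv' fun g _ => ?_
    obtain ⟨g, rfl⟩ := θ.rangeRestrict_surjective g
    exact congrArg Additive.ofMul (hall g)

end action

end Cfsg.Agent.PLocal.CommonNormal.Qrc
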