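import Cfsg.Agent.Lib.PLocal.CommonNormal.Final
import Cfsg.Agent.Lib.PLocal.CommonNormal.Qrc.Module

/-!
A subgroup with a unique maximal subgroup over a Sylow `2`-subgroup, acting on the sections of its core.
-/

set_option autoImplicit false
set_option linter.unusedSectionVars false
set_option linter.style.longLine false
set_option linter.style.haveILetI false

namespace Cfsg.Agent.PLocal.CommonNormal.Qrc

open Cfsg Subgroup

variable {G : Type*} [Group G]

/-- The elements acting trivially on the section `X / N`. -/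
def modCent (X N : Subgroup G) : Subgroup G where
  carrier := {g | g ∈ normalizer (N : Set G) ∧ ∀ x ∈ X, g * x * g⁻¹ * x⁻¹ ∈ N}
  one_mem' := ⟨one_mem _, fun x _ => by simp⟩
  mul_mem' := fun {g h} hg hh => ⟨mul_mem hg.1 hh.1, fun x hx => by
    rw [show g * h * x * (g * h)⁻¹ * x⁻¹ = (g * (h * x * h⁻¹ * x⁻¹) * g⁻¹) * (g * x * g⁻¹ * x⁻¹) by group]
    exact mul_mem ((mem_normalizer_iff.1 hg.1 _).1 (hh.2 x hx)) (hg.2 x hx)⟩
  inv_mem' := fun {g} hg => ⟨inv_mem hg.1, fun x hx => by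
    rw [show g⁻¹ * x * g⁻¹⁻¹ * x⁻¹ = g⁻¹ * (g * x * g⁻¹ * x⁻¹)⁻¹ * g⁻¹⁻¹ by group]
    exact (mem_normalizer_iff.1 (inv_mem hg.1) _).1 (inv_mem (hg.2 x hx))⟩

theorem mem_modCent {X N : Subgroup G} {g : G} :
    g ∈ modCent X N ↔ g ∈ normalizer (N : Set G) ∧ ∀ x ∈ X, g * x * g⁻¹ * x⁻¹ ∈ N := Iff.rfl

theorem modCent_anti {X X' N : Subgroup G} (h : X ≤ X') : modCent X' N ≤ modCent X N :=
  fun _ hg => ⟨hg.1, fun x hx => hg.2 x (h hx)⟩

theorem centralizer_le_modCent {X N : Subgroup G} {g : G} (hg : g ∈ centralizer (X : Set G))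
    (hN : g ∈ normalizer (N : Set G)) : g ∈ modCent X N := ⟨hN, fun x hx => by
  rw [← hg x hx, mul_inv_cancel_right, mul_inv_cancel]
  exact one_mem N⟩

theorem modCent_bot {X : Subgroup G} {g : G} : g ∈ modCent X ⊥ ↔ g ∈ centralizer (X : Set G) := by
  refine ⟨fun h x hx => ?_, fun h => centralizer_le_modCent h
    (by rw [normalizer_eq_top]; exact mem_top g)⟩
  have := h.2 x hx
  rw [mem_bot, mul_inv_eq_one, mul_inv_eq_iff_eq_mul] at this
  exact this.symm

theorem le_normalizer_modCent [Finite G] {L X N : Subgroup G} (hX : L ≤ normalizer (X : Set G))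
    (hN : L ≤ normalizer (N : Set G)) : L ≤ normalizer (modCent X N : Set G) :=
  le_normalizer_of_cj fun g hg => by
    rintro _ ⟨c, hc, rfl⟩
    refine ⟨mul_mem (mul_mem (hN hg) hc.1) (inv_mem (hN hg)), fun x hx => ?_⟩
    show g * c * g⁻¹ * x * (g * c * g⁻¹)⁻¹ * x⁻¹ ∈ N
    rw [show g * c * g⁻¹ * x * (g * c * g⁻¹)⁻¹ * x⁻¹ =
      g * (c * (g⁻¹ * x * g) * c⁻¹ * (g⁻¹ * x * g)⁻¹) * g⁻¹ by group]
    exact (mem_normalizer_iff.1 (hN hg) _).1 (hc.2 _ ((mem_normalizer_iff''.1 (hX hg) x).1 hx))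

/-- An element of odd order stabilizing the series `X ≥ Y ≥ N` acts trivially on `X / N`. -/
theorem mem_modCent_of_stable {X Y N : Subgroup G} (hY : IsPGroup 2 Y) {e : G} (he : Odd (orderOf e))
    (h1 : e ∈ modCent X Y) (h2 : e ∈ modCent Y N) (hYN : Y ≤ normalizer (N : Set G)) : e ∈ modCent X N := by
  refine ⟨h2.1, fun x hx => ?_⟩
  set d := e * x * e⁻¹ * x⁻¹ with hd
  have hdY : d ∈ Y := h1.2 x hx
  have hdn := hYN hdY
  have key : ∀ i : ℕ, ∃ n ∈ N, e ^ i * x * (e ^ i)⁻¹ = n * d ^ i * x := by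
    intro i
    induction i with
    | zero => exact ⟨1, one_mem _, by simp⟩
    | succ i ih =>
      obtain ⟨n, hn, hi⟩ := ih
      refine ⟨(e * n * e⁻¹) * (e * d ^ i * e⁻¹ * (d ^ i)⁻¹),
        mul_mem ((mem_normalizer_iff.1 h2.1 n).1 hn) (h2.2 _ (pow_mem hdY i)), ?_⟩
      rw [pow_succ' e, show e * e ^ i * x * (e * e ^ i)⁻¹ = e * (e ^ i * x * (e ^ i)⁻¹) * e⁻¹ by group, hi,
        pow_succ d, show e * (n * d ^ i * x) * e⁻¹ = e * n * e⁻¹ * (e * d ^ i * e⁻¹) * (d * x) by rw [hd]; group]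
      group
  obtain ⟨n, hn, hi⟩ := key (orderOf e)
  rw [pow_orderOf_eq_one, one_mul, inv_one, mul_one] at hi
  have hdN : d ^ orderOf e ∈ N := by
    have h3 : n * d ^ orderOf e = 1 := right_eq_mul.1 hi
    rw [eq_inv_of_mul_eq_one_right h3]
    exact inv_mem hn
  obtain ⟨k, hk⟩ := hY ⟨d, hdY⟩
  have hk' : d ^ 2 ^ k = 1 := congrArg Subtype.val hk
  have hg := Nat.gcd_eq_gcd_ab (orderOf e) (2 ^ k)
  rw [((Nat.coprime_two_right.2 he).pow_right k).gcd_eq_one, Nat.cast_one] at hg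
  have h4 : d = (d ^ orderOf e) ^ (Nat.gcdA (orderOf e) (2 ^ k)) := by
    conv_lhs => rw [← zpow_one d, hg, zpow_add, zpow_mul, zpow_mul, zpow_natCast, zpow_natCast, hk', one_zpow,
      mul_one]
  rw [h4]
  exact zpow_mem hdN _

variable [Finite G]

/-- `M` is the only maximal subgroup of `L` over its Sylow `2`-subgroup `S`. -/
structure Par (L S M : Subgroup G) : Prop where
  syl : CharP.IsSylIn 2 S L
  lt : M < L
  le : S ≤ M
  uniq : ∀ X : Subgroup G, S ≤ X → X < L → X ≤ M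

variable {L S M : Subgroup G}

namespace Par

variable (h : Par L S M)
include h

theorem core_le : pCoreOf 2 L ≤ S := CharP.pCoreOf_le_of_isSylIn h.syl

theorem odd_mem {N : Subgroup G} (hNL : N ≤ L) (hn : L ≤ normalizer (N : Set G)) (hsup : N ⊔ S = L)
    {x : G} (hx : x ∈ L) (ho : Odd (orderOf x)) : x ∈ N := by
  haveI : (N.subgroupOf L).Normal := (normal_subgroupOf_iff_le_normalizer hNL).2 hn
  obtain ⟨k, hk⟩ : ∃ k, N.relIndex S = 2 ^ k := by
    obtain ⟨k, hk⟩ := IsPGroup.iff_card.1 h.syl.isPGroup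
    obtain ⟨i, -, hi⟩ := (Nat.dvd_prime_pow Nat.prime_two).1
      (show N.relIndex S ∣ 2 ^ k from hk ▸ index_dvd_card (N.subgroupOf S) |>.trans (dvd_refl _))
    exact ⟨i, hi⟩
  have h1 : (N.subgroupOf L).index = 2 ^ k := by
    rw [← relIndex_top_right, ← subgroupOf_self (H := L)]
    conv_lhs => arg 2; arg 1; rw [← hsup, sup_comm]
    rw [subgroupOf_sup h.syl.le hNL, relIndex_sup_right, relIndex_subgroupOf h.syl.le]
    exact hk
  have h2 : (⟨x, hx⟩ : ↥L) ^ 2 ^ k ∈ N.subgroupOf L := by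
    rw [← h1]
    exact pow_index_mem _ _
  have hg := Nat.gcd_eq_gcd_ab (orderOf x) (2 ^ k)
  rw [((Nat.coprime_two_right.2 ho).pow_right k).gcd_eq_one, Nat.cast_one] at hg
  have h4 : x = (x ^ 2 ^ k) ^ (Nat.gcdB (orderOf x) (2 ^ k)) := by
    conv_lhs => rw [← zpow_one x, hg, zpow_add, zpow_mul, zpow_mul, zpow_natCast, zpow_natCast,
      pow_orderOf_eq_one, one_zpow, one_mul]
  rw [h4]
  exact zpow_mem h2 _

/-- A normal subgroup either lies in `M` or covers all elements of odd order. -/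
theorem dichotomy {N : Subgroup G} (hNL : N ≤ L) (hn : L ≤ normalizer (N : Set G)) :
    N ≤ M ∨ oddGenerated L ≤ N := by
  rcases eq_or_lt_of_le (sup_le hNL h.syl.le : N ⊔ S ≤ L) with e | e
  · exact Or.inr ((closure_le _).2 fun x hx => h.odd_mem hNL hn e hx.1 hx.2)
  · exact Or.inl (le_sup_left.trans (h.uniq _ le_sup_right e))

theorem inf_le_core {N : Subgroup G} (hNL : N ≤ L) (hn : L ≤ normalizer (N : Set G)) (hNM : N ≤ M) :
    S ⊓ N ≤ pCoreOf 2 L := by
  refine CharP.le_pCoreOf (inf_le_left.trans h.syl.le) ?_ (h.syl.isPGroup.to_le inf_le_left)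
  have hsyl : CharP.IsSylIn 2 (S ⊓ N) N := h.syl.inf_normal hNL hn
  by_contra hne
  set X := L ⊓ normalizer ((S ⊓ N : Subgroup G) : Set G) with hX
  have hSX : S ≤ X := le_inf h.syl.le
    ((le_inf Subgroup.le_normalizer (h.syl.le.trans hn)).trans inf_normalizer_le_normalizer_inf)
  have hXlt : X < L := lt_of_le_of_ne inf_le_left fun e => hne (e.ge.trans inf_le_right)
  refine h.lt.not_ge fun l hl => ?_
  obtain ⟨T₀, hT₀⟩ := hsyl
  have hcj : CharP.IsSylIn 2 ((S ⊓ N).map (MulAut.conj l).toMonoidHom) N := by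
    have h1 := CharP.IsSylIn.conj (H := N) ⟨T₀, hT₀⟩ l
    rwa [cj_of_mem (hn hl) (X := N) |> fun e => (show N.map (MulAut.conj l).toMonoidHom = N from e)] at h1
  obtain ⟨n, hn', hne'⟩ := CharP.IsSylIn.exists_conj hcj ⟨T₀, hT₀⟩
  have h2 : n * l ∈ X := Subgroup.mem_inf.2 ⟨mul_mem (hNL hn') hl, mem_normalizer_iff_map_conj_eq.2
    ((cj_cj n l (S ⊓ N)).symm.trans hne')⟩
  have h3 := mul_mem (inv_mem (hNM hn')) (h.uniq X hSX hXlt h2)
  rwa [inv_mul_cancel_left] at h3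

theorem gen : oddGenerated L ⊔ S = L := by
  have hle : oddGenerated L ⊔ S ≤ L := sup_le ((closure_le _).2 fun x hx => hx.1) h.syl.le
  refine le_antisymm hle ?_
  by_contra hne
  set X := oddGenerated L ⊔ S
  obtain ⟨p, hp, hpd⟩ := Nat.exists_prime_and_dvd (fun e => hne (relIndex_eq_one.1 e) : X.relIndex L ≠ 1)
  haveI : Fact p.Prime := ⟨hp⟩
  by_cases hp2 : p = 2
  · subst hp2
    exact h.syl.not_dvd (hpd.trans (relIndex_dvd_of_le_left L le_sup_right))
  · obtain ⟨P⟩ := (inferInstance : Nonempty (Sylow p ↥L))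
    refine P.not_dvd_index (hpd.trans (index_dvd_of_le fun s hs => mem_subgroupOf.2 ?_))
    refine mem_sup_left (Subgroup.subset_closure ⟨s.2, ?_⟩)
    obtain ⟨k, hk⟩ := IsPGroup.iff_orderOf.1 P.isPGroup' ⟨s, hs⟩
    have hk' : orderOf s = p ^ k := (orderOf_coe (⟨s, hs⟩ : ↥(P : Subgroup ↥L))).trans hk
    rw [orderOf_coe, hk']
    exact (hp.odd_of_ne_two hp2).pow

theorem not_odd_le : ¬ oddGenerated L ≤ M := fun hle =>
  h.lt.not_ge (h.gen.symm.le.trans (sup_le hle h.le))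

theorem normal_of {X : Subgroup G} (hE : oddGenerated L ≤ normalizer (X : Set G))
    (hS : S ≤ normalizer (X : Set G)) : L ≤ normalizer (X : Set G) :=
  h.gen.symm.le.trans (sup_le hE hS)

end Par

/-- A section of `L` on which the core is trivial and the elements of odd order are not. -/
structure Sect (L X N : Subgroup G) : Prop where
  le : N ≤ X
  leL : X ≤ L
  nX : L ≤ normalizer (X : Set G)
  nN : L ≤ normalizer (N : Set G)
  sq : ∀ x ∈ X, x * x ∈ N
  core : pCoreOf 2 L ≤ modCent X N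
  move : ¬ oddGenerated L ≤ modCent X N

namespace Sect

variable {X N : Subgroup G} (h : Par L S M) (s : Sect L X N)
include h s

theorem ker_le : L ⊓ modCent X N ≤ M :=
  (h.dichotomy inf_le_left ((le_inf Subgroup.le_normalizer (le_normalizer_modCent s.nX s.nN)).trans
    inf_normalizer_le_normalizer_inf)).resolve_right fun e => s.move (e.trans inf_le_right)

theorem inf_ker {A : Subgroup G} (hA : A ≤ S) : modCent X N ⊓ A = pCoreOf 2 L ⊓ A := by
  refine le_antisymm (le_inf ?_ inf_le_right) (inf_le_inf_right _ s.core)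
  refine le_trans ?_ (h.inf_le_core inf_le_left ((le_inf Subgroup.le_normalizer
    (le_normalizer_modCent s.nX s.nN)).trans inf_normalizer_le_normalizer_inf) (s.ker_le h))
  exact le_inf (inf_le_right.trans hA) (le_inf ((inf_le_right.trans hA).trans h.syl.le) inf_le_left)

/-- The action on the section and what the module bounds give for it. -/
theorem facts {A : Subgroup G} (hA : A ≤ S) (hc : ∀ a ∈ A, ∀ b ∈ A, a * b = b * a)
    (hexp : ∀ a ∈ A, a * a = 1) :
    (∀ C : Subgroup G, C ≤ X → N ≤ C → A ≤ modCent C N → (pCoreOf 2 L).relIndex A ≤ C.relIndex X) ∧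
    (∀ D : Subgroup G, N ≤ D → D ≤ X → (∀ a ∈ A, ∀ x ∈ X, a * x * a⁻¹ * x⁻¹ ∈ D) →
      (pCoreOf 2 L).relIndex A ≤ N.relIndex D) ∧
    ∀ C : Subgroup G, C ≤ X → N ≤ C → A ≤ modCent C N → ¬ A ≤ pCoreOf 2 L →
      C.relIndex X ≤ (pCoreOf 2 L).relIndex A →
      ∃ x ∈ X, S ≤ modCent (zpowers x) N ∧ ¬ oddGenerated L ≤ modCent (zpowers x) N := by
  classical
  let X' := X.subgroupOf L
  let N' := N.subgroupOf L
  haveI : N'.Normal := (normal_subgroupOf_iff_le_normalizer (s.le.trans s.leL)).2 s.nN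
  haveI hX'n : X'.Normal := (normal_subgroupOf_iff_le_normalizer s.leL).2 s.nX
  let π := QuotientGroup.mk' N'
  let Y := X'.map π
  haveI : Y.Normal := hX'n.map π (QuotientGroup.mk'_surjective N')
  have hsq : ∀ y : ↥Y, y ^ 2 = 1 := by
    rintro ⟨_, x, hx, rfl⟩
    refine Subtype.ext ?_
    rw [pow_two]
    show π x * π x = 1
    rw [← map_mul]
    exact (QuotientGroup.eq_one_iff _).2 (s.sq _ hx)
  letI : CommGroup ↥Y := { (inferInstance : Group ↥Y) with
    mul_comm := fun a b => by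
      have hinv : ∀ c : ↥Y, c⁻¹ = c := fun c => inv_eq_of_mul_eq_one_right ((pow_two c).symm.trans (hsq c))
      rw [← hinv (a * b), mul_inv_rev, hinv, hinv] }
  letI : Module (ZMod 2) (Additive ↥Y) :=
    AddCommGroup.zmodModule (n := 2) (G := Additive ↥Y) fun v => congrArg Additive.ofMul (hsq v.toMul)
  let θ : ↥L →* MulAut ↥Y := (MulAut.conjNormal : (↥L ⧸ N') →* MulAut ↥Y).comp π
  let ψ : ↥X →* ↥Y := (π.comp (Subgroup.inclusion s.leL)).codRestrict Y fun x => ⟨_, x.2, rfl⟩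
  have hψ : Function.Surjective ψ := by
    rintro ⟨_, x, hx, rfl⟩
    exact ⟨⟨x, hx⟩, rfl⟩
  have hψk : ψ.ker = N.subgroupOf X := by
    ext x
    rw [MonoidHom.mem_ker, Subtype.ext_iff]
    exact QuotientGroup.eq_one_iff _
  have hfix : ∀ (g : ↥L) (x : ↥X), θ g (ψ x) = ψ x ↔ (g : G) * x * (g : G)⁻¹ * (x : G)⁻¹ ∈ N := by
    intro g x
    rw [Subtype.ext_iff]
    show π g * π ⟨x, s.leL x.2⟩ * (π g)⁻¹ = π ⟨x, s.leL x.2⟩ ↔ _
    rw [← mul_inv_eq_one, ← map_inv, ← map_inv, ← map_mul, ← map_mul, ← map_mul]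
    exact QuotientGroup.eq_one_iff _
  have hker : θ.ker = (modCent X N).subgroupOf L := by
    ext g
    rw [MonoidHom.mem_ker, mem_subgroupOf, MulEquiv.ext_iff]
    refine ⟨fun hg => ⟨s.nN g.2, fun x hx => (hfix g ⟨x, hx⟩).1 (hg _)⟩, fun hg y => ?_⟩
    obtain ⟨x, rfl⟩ := hψ y
    exact (hfix g x).2 (hg.2 x x.2)
  obtain ⟨S₀, hS₀⟩ := id h.syl
  have hS₀' : (S₀ : Subgroup ↥L) = S.subgroupOf L := by
    rw [← hS₀, subgroupOf, comap_map_eq_self_of_injective L.subtype_injective]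
  have hact : Acts θ S₀ (M.subgroupOf L) := by
    refine ⟨?_, hS₀'.le.trans (comap_mono h.le), fun Z hZ hne => ?_, ?_, fun D hD hkD hDp => ?_⟩
    · refine ⟨fun e => h.lt.not_ge (subgroupOf_eq_top.1 e), fun Z hZ => ?_⟩
      by_contra hne
      have h1 : Z.map L.subtype < L := lt_of_le_of_ne (map_subtype_le Z) fun e => hne
        (map_injective L.subtype_injective (e.trans (by rw [← MonoidHom.range_eq_map, range_subtype])))
      have h2 := h.uniq (Z.map L.subtype) (fun r hr => ⟨⟨r, h.syl.le hr⟩, hZ.le (h.le hr), rfl⟩) h1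
      exact hZ.not_ge fun y hy => h2 ⟨y, hy, rfl⟩
    · have h1 : Z.map L.subtype < L := lt_of_le_of_ne (map_subtype_le Z) fun e => hne
        (map_injective L.subtype_injective (e.trans (by rw [← MonoidHom.range_eq_map, range_subtype])))
      exact fun y hy => h.uniq _ (hS₀ ▸ map_mono hZ) h1 ⟨y, hy, rfl⟩
    · rw [hker]
      exact fun g hg => s.ker_le h ⟨g.2, hg⟩
    · set D' := D.map L.subtype with hD'
      haveI := hD
      have hDn : L ≤ normalizer (D' : Set G) := (normal_subgroupOf_iff_le_normalizer (map_subtype_le D)).1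
        (by rwa [subgroupOf, comap_map_eq_self_of_injective L.subtype_injective])
      obtain ⟨k, hk⟩ := IsPGroup.iff_card.1 hDp
      rw [card_map] at hk
      have hD'' : D'.subgroupOf L = D := comap_map_eq_self_of_injective L.subtype_injective D
      have h3 : θ.ker.relIndex D = (modCent X N).relIndex D' := by
        rw [hker, hD', ← relIndex_comap]
        rfl
      rcases h.dichotomy (map_subtype_le D) hDn with hDM | hDE
      · have h1 : S ⊓ D' ≤ modCent X N := (h.inf_le_core (map_subtype_le D) hDn hDM).trans s.core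
        have h2 := (h.syl.inf_normal (map_subtype_le D) hDn).not_dvd
        rcases k with _ | k
        · exact relIndex_eq_one.1 (hk.trans (pow_zero 2))
        · refine absurd ?_ h2
          exact ((dvd_pow_self 2 k.succ_ne_zero).trans (dvd_of_eq (hk.symm.trans h3))).trans
            (relIndex_dvd_of_le_left D' h1)
      · refine absurd ?_ s.move
        refine (closure_le _).2 fun x hx => ?_
        have hxD : (⟨x, hx.1⟩ : ↥L) ∈ D := by
          have := hDE (Subgroup.subset_closure hx)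
          rwa [← hD''] 
        have hxk : (⟨x, hx.1⟩ : ↥L) ∈ θ.ker := by
          rw [← MonoidHom.ker_rangeRestrict, MonoidHom.mem_ker]
          refine CharP.eq_one_of_mem_pgroup hDp ⟨_, hxD, rfl⟩ ?_
          refine (Nat.coprime_two_right.2 hx.2).coprime_dvd_left ?_
          exact (orderOf_map_dvd _ _).trans (dvd_of_eq (Subgroup.orderOf_mk x hx.1))
        rw [hker] at hxk
        exact hxk
  have hidx : θ.ker.relIndex (A.subgroupOf L) = (pCoreOf 2 L).relIndex A := by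
    rw [hker, relIndex_subgroupOf (hA.trans h.syl.le), ← inf_relIndex_right, s.inf_ker h hA,
      inf_relIndex_right]
  have hc' : ∀ a ∈ A.subgroupOf L, ∀ b ∈ A.subgroupOf L, a * b = b * a := fun a ha b hb =>
    Subtype.ext (hc a ha b hb)
  have hexp' : ∀ a ∈ A.subgroupOf L, a ^ 2 = 1 := fun a ha =>
    Subtype.ext (by rw [Subgroup.coe_pow, pow_two]; exact hexp a ha)
  have hCfix : ∀ C : Subgroup G, A ≤ modCent C N →
      ∀ n ∈ (C.subgroupOf X).map ψ, ∀ a ∈ A.subgroupOf L, θ a n = n := by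
    rintro C hAC _ ⟨x, hx, rfl⟩ a ha
    exact (hfix a x).2 ((hAC ha).2 x hx)
  have hCidx : ∀ C : Subgroup G, N ≤ C → ((C.subgroupOf X).map ψ).index = C.relIndex X := fun C hNC => by
    rw [index_map_eq (C.subgroupOf X) hψ (hψk.le.trans (comap_mono hNC : N.subgroupOf X ≤ C.subgroupOf X))]
    rfl
  refine ⟨fun C _ hNC hAC => ?_, fun D hND hDX hmove => ?_, fun C _ hNC hAC hAK hle => ?_⟩
  · rw [← hidx, ← hCidx C hNC]
    exact (hact.bounds hc' hexp' (hCfix C hAC) (D := ⊤) fun _ _ _ => mem_top _).1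
  · have h2 := (hact.bounds hc' hexp' (C := ⊥) (D := (D.subgroupOf X).map ψ)
      (fun n hn a _ => by rw [mem_bot.1 hn, map_one]) fun a ha n => by
        obtain ⟨x, rfl⟩ := hψ n
        have hconj : (a : G) * x * (a : G)⁻¹ ∈ X := (mem_normalizer_iff.1 (s.nX a.2) _).1 x.2
        refine ⟨⟨_, mul_mem hconj (inv_mem x.2)⟩, hmove _ ha x x.2, ?_⟩
        rw [div_eq_mul_inv]
        exact Subtype.ext (by rfl)).2
    rw [hidx] at h2
    refine h2.trans (le_of_eq ?_)
    have hr : (ψ.comp (D.subgroupOf X).subtype).range = (D.subgroupOf X).map ψ := by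
      rw [MonoidHom.range_comp, range_subtype]
    rw [← hr, ← index_ker, ← MonoidHom.comap_ker, hψk]
    exact relIndex_subgroupOf hDX
  · obtain ⟨n, hn, g, hg⟩ := hact.exists_moved hc' hexp' (A := A.subgroupOf L) (fun e => hAK fun a ha => by
        have h1 : a ∈ modCent X N := by
          have := @e ⟨a, h.syl.le (hA ha)⟩ ha
          rwa [hker] at this
        exact ((s.inf_ker h hA).le ⟨h1, ha⟩).1) (hCfix C hAC) (by rw [hidx, hCidx C hNC]; exact hle)
    obtain ⟨x, rfl⟩ := hψ n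
    have hpow : ∀ (k : ↥L), θ k (ψ x) = ψ x → ∀ y ∈ zpowers (x : G), (k : G) * y * (k : G)⁻¹ * y⁻¹ ∈ N := by
      intro k hkx y hy
      obtain ⟨i, rfl⟩ := mem_zpowers_iff.1 hy
      have := (hfix k (x ^ i)).1 (by rw [map_zpow, map_zpow, hkx])
      rwa [Subgroup.coe_zpow] at this
    refine ⟨x, x.2, fun t ht => ⟨s.nN (h.syl.le ht), fun y hy => ?_⟩, fun hE => hg ?_⟩
    · exact hpow ⟨t, h.syl.le ht⟩ (hn _ (hS₀'.ge ht)) y hy
    · have hall : (g : G) ∈ modCent (zpowers (x : G)) N := by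
        refine (h.gen.symm.le.trans (sup_le hE fun t ht => ⟨s.nN (h.syl.le ht), fun y hy => ?_⟩)) g.2
        exact hpow ⟨t, h.syl.le ht⟩ (hn _ (hS₀'.ge ht)) y hy
      exact (hfix g x).2 (hall.2 _ (mem_zpowers _))

end Sect

/-- A noncentral irreducible section inside a noncentral section of the core. -/
theorem Par.exists_chief (h : Par L S M) {X₁ X₂ : Subgroup G} (hX₂ : X₂ ≤ X₁) (hX₁ : X₁ ≤ pCoreOf 2 L)
    (hn₁ : L ≤ normalizer (X₁ : Set G)) (hn₂ : L ≤ normalizer (X₂ : Set G))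
    (hE : ¬ oddGenerated L ≤ modCent X₁ X₂) :
    ∃ Y₁ Y₂ : Subgroup G, X₂ ≤ Y₂ ∧ Y₁ ≤ X₁ ∧ Sect L Y₁ Y₂ ∧
      ∀ x ∈ Y₁, L ≤ modCent (zpowers x) Y₂ → x ∈ Y₂ := by
  classical
  obtain ⟨Y₁, ⟨h21, h11, hnY₁, hEY⟩, hmin⟩ := Set.exists_min_image
    {Y : Subgroup G | X₂ ≤ Y ∧ Y ≤ X₁ ∧ L ≤ normalizer (Y : Set G) ∧ ¬ oddGenerated L ≤ modCent Y X₂}
    (fun Y => Nat.card Y) (Set.toFinite _) ⟨X₁, hX₂, le_rfl, hn₁, hE⟩
  have hEn : oddGenerated L ≤ L := (closure_le _).2 fun x hx => hx.1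
  have hne : X₂ < Y₁ := lt_of_le_of_ne h21 fun e => hEY fun g hg => ⟨hn₂ (hEn hg), fun x hx =>
    mul_mem ((mem_normalizer_iff.1 (hn₂ (hEn hg)) x).1 (e ▸ hx)) (inv_mem (e ▸ hx))⟩
  obtain ⟨Y₂, ⟨h22, hlt, hnY₂⟩, hmax⟩ := Set.exists_max_image
    {Z : Subgroup G | X₂ ≤ Z ∧ Z < Y₁ ∧ L ≤ normalizer (Z : Set G)}
    (fun Z => Nat.card Z) (Set.toFinite _) ⟨X₂, le_rfl, hne, hn₂⟩
  have hKp : IsPGroup 2 ↥(pCoreOf 2 L) := CharP.isPGroup_pCoreOf 2 L
  have hY₁K : Y₁ ≤ pCoreOf 2 L := h11.trans hX₁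
  have hKL : pCoreOf 2 L ≤ L := CharP.pCoreOf_le 2 L
  have hY₁L : Y₁ ≤ L := hY₁K.trans hKL
  have hKn : L ≤ normalizer (pCoreOf 2 L : Set G) := CharP.le_normalizer_pCoreOf 2 L
  have hsat : ∀ Z : Subgroup G, Y₂ < Z → Z ≤ Y₁ → L ≤ normalizer (Z : Set G) → Z = Y₁ := by
    intro Z h1 h2 h3
    by_contra hne'
    have h4 := hmax Z ⟨h22.trans h1.le, lt_of_le_of_ne h2 hne', h3⟩
    exact h1.ne (eq_of_le_of_card_ge h1.le h4)
  -- the fixed involutions of the core on the section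
  let N' := Y₂.subgroupOf L
  haveI : N'.Normal := (normal_subgroupOf_iff_le_normalizer (hlt.le.trans hY₁L)).2 hnY₂
  let π := QuotientGroup.mk' N'
  let Kb := ((pCoreOf 2 L).subgroupOf L).map π
  let Yb := (Y₁.subgroupOf L).map π
  haveI hYn : Yb.Normal := ((normal_subgroupOf_iff_le_normalizer hY₁L).2 hnY₁).map π
    (QuotientGroup.mk'_surjective N')
  haveI hKbn : Kb.Normal := ((normal_subgroupOf_iff_le_normalizer hKL).2 hKn).map π
    (QuotientGroup.mk'_surjective N')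
  have hYne : Yb ≠ ⊥ := fun e => hlt.not_ge fun y hy => by
    have h1 : π ⟨y, hY₁L hy⟩ = 1 := mem_bot.1 (e ▸ mem_map_of_mem π (show (⟨y, hY₁L hy⟩ : ↥L) ∈ Y₁.subgroupOf L from hy))
    exact ((QuotientGroup.eq_one_iff (N := N') _).1 h1 :)
  obtain ⟨z, hz, hz2, hzc⟩ := CharP.exists_order_prime_central (p := 2)
    (((hKp.comap_subtype (K := L))).map π) (map_mono (comap_mono hY₁K) : Yb ≤ Kb)
    le_normalizer_of_normal hYne
  let W : Subgroup (↥L ⧸ N') := closure {w | w ∈ Yb ∧ w * w = 1 ∧ w ∈ centralizer (Kb : Set (↥L ⧸ N'))}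
  have hWY : W ≤ Yb := (closure_le _).2 fun w hw => hw.1
  haveI hWn : W.Normal := by
    refine ⟨fun w hw g => ?_⟩
    have : W ≤ W.comap (MulAut.conj g).toMonoidHom := (closure_le _).2 fun v hv => subset_closure
      ⟨hYn.conj_mem v hv.1 g, by rw [← map_mul, hv.2.1, map_one],
        (Subgroup.normal_centralizer (H := Kb)).conj_mem v hv.2.2 g⟩
    exact this hw
  set W₀ := (W.comap π).map L.subtype with hW₀
  have hW₀Y : W₀ = Y₁ := by
    refine hsat W₀ (lt_of_le_of_ne ?_ ?_) ?_ ?_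
    · intro y hy
      refine ⟨⟨y, hY₁L (hlt.le hy)⟩, ?_, rfl⟩
      rw [SetLike.mem_coe, mem_comap, show π ⟨y, _⟩ = 1 from (QuotientGroup.eq_one_iff _).2 hy]
      exact one_mem W
    · intro e
      obtain ⟨y, rfl⟩ := QuotientGroup.mk'_surjective N' z
      have h1 : (y : G) ∈ W₀ := ⟨y, subset_closure ⟨hz, by rw [← pow_two, ← hz2, pow_orderOf_eq_one], hzc⟩, rfl⟩
      rw [← e] at h1
      rw [show π y = 1 from (QuotientGroup.eq_one_iff _).2 h1, orderOf_one] at hz2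
      omega
    · rintro _ ⟨y, hy, rfl⟩
      obtain ⟨y', hy', e⟩ := hWY hy
      have : y'⁻¹ * y ∈ N' := (QuotientGroup.eq (s := N')).1 e
      have h2 := mul_mem (show (y' : G) ∈ Y₁ from hy') (hlt.le this)
      simpa using h2
    · exact (normal_subgroupOf_iff_le_normalizer (map_subtype_le _)).1 (by
        rw [subgroupOf, comap_map_eq_self_of_injective L.subtype_injective]; exact hWn.comap π)
  have hWc : W ≤ centralizer (Kb : Set (↥L ⧸ N')) := (closure_le _).2 fun w hw => hw.2.2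
  have hin : ∀ y ∈ Y₁, ∃ hy : y ∈ L, π ⟨y, hy⟩ ∈ W := fun y hy => by
    rw [← hW₀Y] at hy
    obtain ⟨y', hy', rfl⟩ := hy
    exact ⟨y'.2, hy'⟩
  have hWsq : ∀ w ∈ W, w * w = 1 := by
    intro w hw
    induction hw using closure_induction with
    | mem v hv => exact hv.2.1
    | one => rw [one_mul]
    | mul a b ha hb iha ihb =>
      have hab : b * a = a * b := hWc ha b (map_mono (comap_mono hY₁K) (hWY hb))
      rw [mul_assoc, ← mul_assoc b, hab, mul_assoc a b b, ihb, mul_one, iha]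
    | inv a ha iha => rw [← mul_inv_rev, iha, inv_one]
  refine ⟨Y₁, Y₂, h22, h11, ⟨hlt.le, hY₁L, hnY₁, hnY₂, fun y hy => ?_, fun k hk => ⟨hnY₂ (hKL hk), fun y hy => ?_⟩,
    fun hE₁ => ?_⟩, fun x hx hLx => ?_⟩
  · obtain ⟨hyL, hyW⟩ := hin y hy
    exact ((QuotientGroup.eq_one_iff (N := N') (⟨y, hyL⟩ * ⟨y, hyL⟩)).1 ((map_mul π _ _).trans (hWsq _ hyW)) :)
  · obtain ⟨hyL, hyW⟩ := hin y hy
    suffices hs : π (⟨k, hKL hk⟩ * ⟨y, hyL⟩ * (⟨k, hKL hk⟩ : ↥L)⁻¹ * (⟨y, hyL⟩ : ↥L)⁻¹) = 1 from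
      ((QuotientGroup.eq_one_iff (N := N') _).1 hs :)
    rw [map_mul, map_mul, map_mul, map_inv, map_inv,
      hWc hyW (π ⟨k, hKL hk⟩) (mem_map_of_mem π (show (⟨k, hKL hk⟩ : ↥L) ∈ (pCoreOf 2 L).subgroupOf L from hk)),
      mul_inv_cancel_right, mul_inv_cancel]
  · have hY₂E : oddGenerated L ≤ modCent Y₂ X₂ := by
      by_contra hne'
      exact hlt.ne (eq_of_le_of_card_ge hlt.le (hmin Y₂ ⟨h22, hlt.le.trans h11, hnY₂, hne'⟩))
    refine hEY ((closure_le _).2 fun e he => mem_modCent_of_stable (hKp.to_le (hlt.le.trans hY₁K)) he.2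
      (hE₁ (subset_closure he)) (hY₂E (subset_closure he)) ((hlt.le.trans hY₁L).trans hn₂))
  · by_contra hxn
    have hlt' : Y₂ < Y₂ ⊔ zpowers x := lt_of_le_of_ne le_sup_left fun e =>
      hxn (e ▸ mem_sup_right (mem_zpowers x))
    have hn' : L ≤ normalizer ((Y₂ ⊔ zpowers x : Subgroup G) : Set G) := by
      refine le_normalizer_of_cj fun g hg => ?_
      rw [cj, Subgroup.map_sup, MonoidHom.map_zpowers]
      refine sup_le ((cj_of_mem (hnY₂ hg)).le.trans le_sup_left) (zpowers_le.2 ?_)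
      show g * x * g⁻¹ ∈ _
      have h1 := mul_mem (mem_sup_left (T := zpowers x) ((hLx hg).2 x (mem_zpowers x)))
        (mem_sup_right (S := Y₂) (mem_zpowers x))
      rwa [inv_mul_cancel_right] at h1
    have e := hsat _ hlt' (sup_le hlt.le (zpowers_le.2 hx)) hn'
    have hE₁ : oddGenerated L ≤ modCent Y₁ Y₂ := fun g hg => by
      have hgn := hnY₂ (hEn hg)
      have hflip : ∀ {u v : G}, u * v * u⁻¹ * v⁻¹ ∈ Y₂ → v * u * v⁻¹ * u⁻¹ ∈ Y₂ := fun {u v} huv => by
        rw [show v * u * v⁻¹ * u⁻¹ = (u * v * u⁻¹ * v⁻¹)⁻¹ by group]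
        exact inv_mem huv
      have hle : Y₁ ≤ modCent (zpowers g) Y₂ := by
        rw [← e]
        refine sup_le (fun a ha => ⟨Subgroup.le_normalizer ha, fun v hv => hflip ?_⟩) (zpowers_le.2 ?_)
        · exact mul_mem ((mem_normalizer_iff.1 (zpowers_le.2 hgn hv) a).1 ha) (inv_mem ha)
        · exact ⟨hnY₂ (hY₁L hx), fun v hv => hflip
            ((hLx (zpowers_le.2 (hEn hg) hv)).2 x (mem_zpowers x))⟩
      exact ⟨hgn, fun y hy => hflip ((hle hy).2 g (mem_zpowers g))⟩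
    have hY₂E : oddGenerated L ≤ modCent Y₂ X₂ := by
      by_contra hne'
      exact hlt.ne (eq_of_le_of_card_ge hlt.le (hmin Y₂ ⟨h22, hlt.le.trans h11, hnY₂, hne'⟩))
    exact hEY ((closure_le _).2 fun e' he => mem_modCent_of_stable (hKp.to_le (hlt.le.trans hY₁K)) he.2
      (hE₁ (subset_closure he)) (hY₂E (subset_closure he)) ((hlt.le.trans hY₁L).trans hn₂))

end Cfsg.Agent.PLocal.CommonNormal.Qrc
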