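import Cfsg.Agent.Lib.PLocal.CommonNormal.Qrc.Base

/-!
A minimal subgroup outside `M` over the Baumann subgroup and the core, and the cubic offender it gives.
-/

set_option autoImplicit false
set_option linter.unusedSectionVars false
set_option linter.style.longLine false
set_option linter.style.haveILetI false

namespace Cfsg.Agent.PLocal.CommonNormal.Qrc

open Cfsg Subgroup Cfsg.Agent.PLocal.ThompsonSubgroup
open scoped commutatorElement Pointwise

variable {G : Type*} [Group G] [Finite G]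

theorem relIndex_sup_of_le_normalizer {A N : Subgroup G} (h : A ≤ normalizer (N : Set G)) :
    N.relIndex (A ⊔ N) = N.relIndex A := by
  have h1 := Blocks.relIndex_mul_card_inf N (A ⊔ N)
  rw [inf_eq_right.2 (le_sup_right : N ≤ A ⊔ N)] at h1
  have h2 := Blocks.relIndex_mul_card_inf N A
  have h3 := GlaubermanReplacement.card_sup_mul_card_inf h
  rw [← h1, ← h2] at h3
  refine Nat.eq_of_mul_eq_mul_left (Nat.mul_pos (Nat.card_pos (α := ↥N)) (Nat.card_pos (α := ↥(A ⊓ N)))) ?_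
  rw [mul_comm _ (Nat.card ↥N)] at h3
  linarith

/-- A subgroup outside `M`, minimal over the Baumann subgroup and the core of `H`. -/
structure Small (T : Sylow 2 G) (M H L S : Subgroup G) : Prop where
  par : Par L S (L ⊓ M)
  leH : L ≤ H
  sT : S ≤ (T : Subgroup G)
  bS : baumannSubgroupOf 2 (T : Subgroup G) ≤ S
  qS : pCoreOf 2 H ≤ S
  small : ∀ X : Subgroup G, baumannSubgroupOf 2 (T : Subgroup G) ≤ X → pCoreOf 2 H ≤ X → X ≤ L →
    ¬ X ≤ M → X = L
  notM : ¬ L ≤ M

variable {T : Sylow 2 G} {M M₀ H V : Subgroup G}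

namespace Setup

variable (s : Setup T M M₀ H V)
include s

theorem exists_small (hHB : ¬ H ≤ normalizer (baumannSubgroupOf 2 (T : Subgroup G) : Set G)) :
    ∃ L S : Subgroup G, Small T M H L S := by
  classical
  set B := baumannSubgroupOf 2 (T : Subgroup G) with hB
  set Q := pCoreOf 2 H with hQ
  have hBQT : B ⊔ Q ≤ (T : Subgroup G) := sup_le (BlockBasic.baumann_le _) s.par.core_le
  obtain ⟨L, ⟨hBQL, hLH, hLM⟩, hmin⟩ := Set.exists_min_image
    {L : Subgroup G | B ⊔ Q ≤ L ∧ L ≤ H ∧ ¬ L ≤ M} (fun L => Nat.card L) (Set.toFinite _)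
    ⟨H, hBQT.trans s.tH, le_rfl, s.notM⟩
  obtain ⟨S₁, hS₁, hBQS⟩ := CharP.exists_isSylIn_ge (p := 2) (T.isPGroup'.to_le hBQT)
    (le_inf hBQL (hBQT.trans s.tM) : B ⊔ Q ≤ L ⊓ M)
  obtain ⟨T', hT', hS₁T'⟩ := CharP.exists_isSylIn_ge (p := 2) hS₁.isPGroup
    (hS₁.le.trans (inf_le_inf_right M hLH) : S₁ ≤ H ⊓ M)
  obtain ⟨x, hx, hxT⟩ := CharP.IsSylIn.exists_conj
    (s.sylH.mono (le_inf s.tH s.tM) inf_le_left : CharP.IsSylIn 2 (T : Subgroup G) (H ⊓ M)) hT'
  have hxB : x ∈ normalizer (B : Set G) := by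
    have h1 : B ≤ (T : Subgroup G).map (MulAut.conj x).toMonoidHom :=
      hxT.symm ▸ (le_sup_left.trans hBQS).trans hS₁T'
    let S' : Sylow 2 G := x • T
    have hS' : (S' : Subgroup G) = (T : Subgroup G).map (MulAut.conj x).toMonoidHom := rfl
    have hJ' := BlockBasic.thompson_eq T S' ((BlockBasic.thompson_le_baumann _).trans (hS' ▸ h1))
    refine mem_normalizer_iff_map_conj_eq.2 ?_
    show B.map (MulAut.conj x).toMonoidHom = B
    rw [hB, BlockBasic.baumann_conj, ← hS']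
    refine (eq_of_le_of_card_ge ?_ ?_).symm
    · simp only [baumannSubgroupOf, centerThompsonOf, hJ']
      exact le_inf (hS' ▸ h1) inf_le_right
    · rw [hS', ← BlockBasic.baumann_conj]
      exact (card_map_of_injective (MulAut.conj x).injective).le
  have hxM : x⁻¹ ∈ M := inv_mem hx.2
  have hxH : x⁻¹ ∈ H := inv_mem hx.1
  set L' := cj x⁻¹ L with hL'
  set S := cj x⁻¹ S₁ with hS
  have hST : S ≤ (T : Subgroup G) := by
    refine (cj_mono _ (hS₁T'.trans hxT.ge)).trans (le_of_eq ?_)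
    show cj x⁻¹ (cj x (T : Subgroup G)) = _
    rw [cj_cj, inv_mul_cancel, cj_one]
  have hBS : B ≤ S := (cj_of_mem (inv_mem hxB)).ge.trans (cj_mono _ (le_sup_left.trans hBQS))
  have hQS : Q ≤ S :=
    (cj_of_mem (inv_mem (CharP.le_normalizer_pCoreOf 2 H hx.1))).ge.trans (cj_mono _ (le_sup_right.trans hBQS))
  have hcardL : Nat.card L' = Nat.card L := card_map_of_injective (MulAut.conj x⁻¹).injective
  have hL'H : L' ≤ H := (cj_mono _ hLH).trans (cj_of_mem (Subgroup.le_normalizer hxH)).le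
  have hL'M : ¬ L' ≤ M := fun hle => hLM (by
    have h1 := (cj_mono x hle).trans (cj_of_mem (Subgroup.le_normalizer hx.2)).le
    rwa [hL', cj_cj, mul_inv_cancel, cj_one] at h1)
  have hSL : S ≤ L' := cj_mono _ (hS₁.le.trans inf_le_left)
  have hsmall : ∀ X : Subgroup G, B ≤ X → Q ≤ X → X ≤ L' → ¬ X ≤ M → X = L' := fun X hBX hQX hX hXM =>
    eq_of_le_of_card_ge hX (hcardL.le.trans (hmin X ⟨sup_le hBX hQX, hX.trans hL'H, hXM⟩))
  have hSM : CharP.IsSylIn 2 S (L' ⊓ M) := by
    have h1 := hS₁.conj x⁻¹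
    rwa [Subgroup.map_inf _ _ _ (MulAut.conj x⁻¹).injective,
      show M.map (MulAut.conj x⁻¹).toMonoidHom = M from cj_of_mem (Subgroup.le_normalizer hxM)] at h1
  have hLN : ¬ L' ≤ normalizer (B : Set G) := fun hle => by
    rcases s.min ((T : Subgroup G) ⊔ L') le_sup_left (sup_le s.tH hL'H) with e | e
    · refine hHB (e.ge.trans (sup_le ?_ hle))
      exact Subgroup.le_normalizer.trans (baumann_eq_inf T T.isPGroup' (BlockBasic.baumann_le _)).2
    · exact hL'M (le_sup_right.trans e)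
  obtain ⟨P, hP, hSP⟩ := CharP.exists_isSylIn_ge (p := 2) hSM.isPGroup hSL
  have hPS : P = S := by
    by_contra hne
    haveI : Group.IsNilpotent P := hP.isPGroup.isNilpotent
    have hlt : S.subgroupOf P < ⊤ := lt_top_iff_ne_top.2 fun e =>
      hne (le_antisymm (subgroupOf_eq_top.1 e) hSP)
    obtain ⟨b, hb, hbS⟩ := SetLike.exists_of_lt (Group.normalizerCondition_of_isNilpotent (G := P) _ hlt)
    have hbN : (b : G) ∈ normalizer (S : Set G) := by
      rw [show S = (S.subgroupOf P).map P.subtype from (map_subgroupOf_eq_of_le hSP).symm]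
      exact le_normalizer_map P.subtype ⟨b, hb, rfl⟩
    by_cases hX : L' ⊓ normalizer (S : Set G) ≤ M
    · have h2 : P ⊓ normalizer (S : Set G) ≤ L' ⊓ M :=
        le_inf (inf_le_left.trans hP.le) ((le_inf (inf_le_left.trans hP.le) inf_le_right).trans hX)
      have h3 := hSM.eq_of_le (hP.isPGroup.to_le inf_le_left) h2 (le_inf hSP Subgroup.le_normalizer)
      exact hbS (mem_subgroupOf.2 (h3.le (Subgroup.mem_inf.2 ⟨b.2, hbN⟩)))
    · have h2 := hsmall _ (le_inf (hBS.trans hSL) (hBS.trans Subgroup.le_normalizer))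
        (le_inf (hQS.trans hSL) (hQS.trans Subgroup.le_normalizer)) inf_le_left hX
      exact hLN ((h2.ge.trans inf_le_right).trans (baumann_eq_inf T hSM.isPGroup hBS).2)
  refine ⟨L', S, ⟨⟨hPS ▸ hP, lt_of_le_of_ne inf_le_left fun e => hL'M (e.ge.trans inf_le_right),
    hSM.le, fun X hSX hX => le_inf hX.le ?_⟩, hL'H, hST, hBS, hQS, hsmall, hL'M⟩⟩
  by_contra hXM
  exact hX.ne (hsmall X (hBS.trans hSX) (hQS.trans hSX) hX.le hXM)

variable {L S : Subgroup G} (sm : Small T M H L S)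
include sm

theorem qK : pCoreOf 2 H ≤ pCoreOf 2 L :=
  CharP.le_pCoreOf (sm.qS.trans sm.par.syl.le) (sm.leH.trans (CharP.le_normalizer_pCoreOf 2 H))
    (CharP.isPGroup_pCoreOf 2 H)

theorem small_norm {X : Subgroup G} (hT : (T : Subgroup G) ≤ normalizer (X : Set G))
    (hL : L ≤ normalizer (X : Set G)) : H ≤ normalizer (X : Set G) := by
  rcases s.min ((T : Subgroup G) ⊔ L) le_sup_left (sup_le s.tH sm.leH) with e | e
  · exact e.ge.trans (sup_le hT hL)
  · exact absurd (le_sup_right.trans e) sm.notM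

theorem move_core : ¬ oddGenerated L ≤ modCent (pCoreOf 2 L) ⊥ := fun hle => by
  have hKQ : L ⊓ centralizer (pCoreOf 2 L : Set G) ≤ pCoreOf 2 L := fun x hx =>
    s.qK sm (s.charPH ⟨sm.leH hx.1, Subgroup.centralizer_le (SetLike.coe_subset_coe.2 (s.qK sm)) hx.2⟩)
  refine sm.par.not_odd_le ((closure_le _).2 fun x hx => ?_)
  have h1 : x = 1 := CharP.eq_one_of_mem_pgroup (CharP.isPGroup_pCoreOf 2 L)
    (hKQ ⟨hx.1, modCent_bot.1 (hle (subset_closure hx))⟩) (Nat.coprime_two_right.2 hx.2)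
  rw [h1]
  exact one_mem _

/-- The cubic offender, when `V` is outside the core of the small subgroup. -/
theorem cubic (hq : ¬ QuadParamLE M₀ V 2) (hVK : ¬ V ≤ pCoreOf 2 L) :
    ¬ V ≤ pCoreOf 2 H ∧ CubicParamLE M₀ V 2 := by
  classical
  refine ⟨fun hle => hVK (hle.trans (s.qK sm)), ?_⟩
  set K := pCoreOf 2 L with hK
  set B₀ := baumannSubgroupOf 2 (T : Subgroup G) with hB₀
  set Q := pCoreOf 2 H with hQ
  have hB₀V : B₀ ≤ centralizer (V : Set G) := (s.baumann_le hq).trans (s.coreV.le.trans inf_le_right)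
  have hVB₀ : V ≤ B₀ := by
    refine (s.v_le_center hq).trans ((CharP.omegaOne_le 2 _).trans ?_)
    exact inf_le_left.trans (BlockBasic.thompson_le_baumann _)
  have hVS : V ≤ S := hVB₀.trans sm.bS
  have hVL : V ≤ L := hVS.trans sm.par.syl.le
  have hKT : K ≤ (T : Subgroup G) := sm.par.core_le.trans sm.sT
  have hKV : K ≤ normalizer (V : Set G) := hKT.trans s.tV
  have hKn : L ≤ normalizer (K : Set G) := CharP.le_normalizer_pCoreOf 2 L
  -- a conjugate outside `M`
  obtain ⟨l, hl, hlM⟩ : ∃ l ∈ L, ¬ cj l V ≤ M := by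
    by_contra hall
    push Not at hall
    set N := ⨆ m : ↥L, cj (m : G) V with hN
    have hNL : N ≤ L := iSup_le fun m => (cj_mono _ hVL).trans (cj_of_mem (Subgroup.le_normalizer m.2)).le
    have hNM : N ≤ L ⊓ M := le_inf hNL (iSup_le fun m => hall m m.2)
    exact hVK ((le_inf hVS (le_iSup_of_le (1 : ↥L) (cj_one V).ge)).trans
      (sm.par.inf_le_core hNL (le_normalizer_of_cj fun x hx => cj_iSup_le hx) hNM))
  set h := l⁻¹ with hh
  have hhL : h ∈ L := inv_mem hl
  set B := cj h (V ⊓ K) with hBdef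
  have hBK : B ≤ K := (cj_mono h inf_le_right).trans (cj_of_mem (hKn hhL)).le
  have hBV : B ≤ normalizer (V : Set G) := hBK.trans hKV
  have hBVh : B ≤ cj h V := cj_mono h inf_le_left
  have hKVh : K ≤ normalizer (cj h V : Set G) := by
    refine (cj_of_mem (hKn hhL)).ge.trans ((cj_mono h hKV).trans ?_)
    exact Subgroup.le_normalizer_map _
  -- the two sides generate the small subgroup over the core
  set P := V ⊔ cj h B₀ with hP
  have hQn : L ≤ normalizer (Q : Set G) := sm.leH.trans (CharP.le_normalizer_pCoreOf 2 H)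
  have hPL : P ≤ L := sup_le hVL
    ((cj_mono h (sm.bS.trans sm.par.syl.le)).trans (cj_of_mem (Subgroup.le_normalizer hhL)).le)
  have hgen : P ⊔ Q = L := by
    have e : cj l (P ⊔ Q) = cj l V ⊔ B₀ ⊔ Q := by
      show (P ⊔ Q).map _ = _
      rw [hP, Subgroup.map_sup, Subgroup.map_sup]
      refine congrArg₂ _ (congrArg₂ _ rfl ?_) (cj_of_mem (hQn hl))
      show cj l (cj h B₀) = B₀
      rw [cj_cj, hh, mul_inv_cancel, cj_one]
    have h1 : cj l (P ⊔ Q) = L := by
      refine sm.small _ (e ▸ le_sup_of_le_left le_sup_right) (e ▸ le_sup_right) ?_ fun hle => hlM ?_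
      · exact (cj_mono l (sup_le hPL (sm.qS.trans sm.par.syl.le))).trans (cj_of_mem (Subgroup.le_normalizer hl)).le
      · exact (e ▸ le_sup_of_le_left le_sup_left : cj l V ≤ cj l (P ⊔ Q)).trans hle
    have h2 := congrArg (cj h) h1
    rwa [cj_cj, hh, inv_mul_cancel, cj_one, cj_of_mem (Subgroup.le_normalizer (inv_mem hl))] at h2
  have hPcent : ∀ x ∈ B, x ∈ centralizer (V : Set G) → P ≤ centralizer ({x} : Set G) := by
    intro x hx hxV
    refine sup_le (fun v hv => mem_centralizer_singleton_iff.2 (hxV v hv)) ?_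
    rintro _ ⟨y, hy, rfl⟩
    obtain ⟨w, hw, rfl⟩ := hBVh hx
    refine mem_centralizer_singleton_iff.2 ?_
    rw [← map_mul, ← map_mul]
    exact congrArg _ ((hB₀V hy) w hw).symm
  have hBC : B ⊓ centralizer (V : Set G) ≤ V := by
    rintro x ⟨hxB, hxV⟩
    have hPx := hPcent x hxB hxV
    obtain ⟨w, hw, hwx⟩ := hBVh hxB
    have hlset : l ∈ ((Q ⊔ P : Subgroup G) : Set G) := by rw [sup_comm, hgen]; exact hl
    rw [coe_mul_of_right_le_normalizer_left Q P (hPL.trans hQn)] at hlset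
    obtain ⟨q, hq', p, hp, e⟩ := Set.mem_mul.1 hlset
    have hqV : q ∈ normalizer (V : Set G) := hKV (s.qK sm hq')
    have hw' : w = q * x * q⁻¹ := by
      have h1 : w = l * x * l⁻¹ := by
        rw [← hwx, MulEquiv.coe_toMonoidHom, MulAut.conj_apply, hh]; group
      rw [h1, ← e, show q * p * x * (q * p)⁻¹ = q * (p * x * p⁻¹) * q⁻¹ by group,
        mem_centralizer_singleton_iff.1 (hPx hp), mul_inv_cancel_right]
    exact (mem_normalizer_iff.1 hqV x).2 (hw' ▸ hw)
  have hBV' : B ⊓ centralizer (V : Set G) = B ⊓ (V ⊓ K) :=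
    le_antisymm (le_inf inf_le_left (le_inf hBC (inf_le_left.trans hBK)))
      (le_inf inf_le_left (inf_le_right.trans (inf_le_left.trans fun v hv u hu => s.vComm u hu v hv)))
  have hm : B.relIndex (V ⊓ K) = (centralizer (V : Set G)).relIndex B := by
    have h1 := Blocks.relIndex_mul_card_inf B (V ⊓ K)
    have h2 := Blocks.relIndex_mul_card_inf (centralizer (V : Set G)) B
    rw [hBV', inf_comm B (V ⊓ K), show Nat.card ↥B = Nat.card ↥(V ⊓ K) from
      card_map_of_injective (MulAut.conj h).injective] at h2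
    exact Nat.eq_of_mul_eq_mul_right Nat.card_pos (h1.trans h2.symm)
  -- the module bound
  obtain ⟨Y₁, Y₂, -, hY₁K, sect, hirr⟩ := sm.par.exists_chief (bot_le : (⊥ : Subgroup G) ≤ K) le_rfl hKn
    (by rw [normalizer_eq_top]; exact le_top) (s.move_core sm)
  have hY₁V : Y₁ ≤ normalizer (V : Set G) := hY₁K.trans hKV
  have hKVm : K.relIndex V ≤ B.relIndex (V ⊓ K) := by
    have h1 := (sect.facts sm.par hVS s.vComm s.vSq).2.1 ((V ⊓ Y₁) ⊔ Y₂) le_sup_right
      (sup_le inf_le_right sect.le) (fun a ha x hx => mem_sup_left (Subgroup.mem_inf.2 ⟨?_, ?_⟩))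
    · rw [relIndex_sup_of_le_normalizer ((inf_le_left.trans hVL).trans sect.nN)] at h1
      refine h1.trans (le_trans ?_ (relIndex_le_of_le_right (inf_le_inf_left V hY₁K) index_ne_zero_of_finite))
      rw [← inf_relIndex_right B (V ⊓ Y₁)]
      refine relIndex_le_of_le_left (fun x hx => ?_) index_ne_zero_of_finite
      obtain ⟨hxB, hxV, hxY⟩ := hx
      refine hirr x hxY ?_
      rw [← hgen]
      refine sup_le (fun p hp => ⟨sect.nN (hPL hp), fun y hy => ?_⟩)
        (((s.qK sm).trans sect.core).trans (modCent_anti (zpowers_le.2 hxY)))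
      obtain ⟨i, rfl⟩ := mem_zpowers_iff.1 hy
      have hc : Commute p x :=
        mem_centralizer_singleton_iff.1 (hPcent x hxB (fun v hv => s.vComm v hv x hxV) hp)
      rw [(hc.zpow_right i).eq, mul_inv_cancel_right, mul_inv_cancel]
      exact one_mem _
    · rw [show a * x * a⁻¹ * x⁻¹ = a * (x * a⁻¹ * x⁻¹) by group]
      exact mul_mem ha ((mem_normalizer_iff.1 (hY₁V hx) _).1 (inv_mem ha))
    · exact mul_mem ((mem_normalizer_iff.1 (sect.nX (hVL ha)) x).1 hx) (inv_mem hx)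
  have hbig : 1 < K.relIndex V := Nat.one_lt_iff_ne_zero_and_ne_one.2
    ⟨index_ne_zero_of_finite, fun e => hVK (relIndex_eq_one.1 e)⟩
  refine ⟨B, (hBK.trans hKT).trans s.tM₀, ⟨fun hle => ?_, fun b hb => ?_, fun b hb b' hb' => ?_⟩, ?_, ?_⟩
  · have h1 := (hm.trans (relIndex_eq_one.2 hle))
    omega
  · obtain ⟨v, hv, rfl⟩ := hb
    rw [← map_pow, pow_two, s.vSq v hv.1, map_one]
    exact one_mem _
  · obtain ⟨v, hv, rfl⟩ := hb
    obtain ⟨v', hv', rfl⟩ := hb'
    rw [← map_mul, s.vComm v hv.1 v' hv'.1, map_mul, mul_inv_cancel_right, mul_inv_cancel]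
    exact one_mem _
  · have h1 : ⁅V, B⁆ ≤ V ⊓ K := Subgroup.commutator_le.2 fun v hv b hb => by
      refine Subgroup.mem_inf.2 ⟨?_, ?_⟩
      · rw [commutatorElement_def, show v * b * v⁻¹ * b⁻¹ = v * (b * v⁻¹ * b⁻¹) by group]
        exact mul_mem hv ((mem_normalizer_iff.1 (hBV hb) _).1 (inv_mem hv))
      · rw [commutatorElement_def]
        exact mul_mem ((mem_normalizer_iff.1 (hKn (hVL hv)) b).1 (hBK hb)) (inv_mem (hBK hb))
    have h2 : ⁅V ⊓ K, B⁆ ≤ B := Subgroup.commutator_le.2 fun w hw b hb => by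
      obtain ⟨y, hy, hyb⟩ := hb
      have hbB : b ∈ B := ⟨y, hy, hyb⟩
      have h1 : w * b * w⁻¹ * b⁻¹ ∈ cj h V ⊓ K :=
        Subgroup.mem_inf.2 ⟨mul_mem ((mem_normalizer_iff.1 (hKVh hw.2) b).1 (hBVh hbB)) (inv_mem (hBVh hbB)),
          mul_mem (mul_mem (mul_mem hw.2 (hBK hbB)) (inv_mem hw.2)) (inv_mem (hBK hbB))⟩
      rw [commutatorElement_def]
      show w * b * w⁻¹ * b⁻¹ ∈ cj h (V ⊓ K)
      rw [cj, Subgroup.map_inf _ _ _ (MulAut.conj h).injective]
      exact Subgroup.mem_inf.2 ⟨h1.1, (cj_of_mem (hKn hhL)).ge h1.2⟩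
    have h3 : B ≤ centralizer (B : Set G) := by
      rintro _ ⟨v, hv, rfl⟩ _ ⟨v', hv', rfl⟩
      rw [← map_mul, ← map_mul, s.vComm v' hv'.1 v hv.1]
    rw [eq_bot_iff]
    exact le_trans (commutator_mono ((commutator_mono h1 le_rfl).trans h2) le_rfl)
      (commutator_eq_bot_iff_le_centralizer.2 h3).le
  · rw [inf_relIndex_left]
    calc (centralizer (B : Set G)).relIndex V ≤ B.relIndex V :=
          relIndex_le_of_le_left (fun x hx => by
            rintro y ⟨u, hu, rfl⟩
            obtain ⟨u', hu', rfl⟩ := hx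
            rw [← map_mul, ← map_mul, s.vComm u hu.1 u' hu'.1]) index_ne_zero_of_finite
      _ = B.relIndex (V ⊓ K) * K.relIndex V := by
          rw [inf_comm V K, relIndex_inf_mul_relIndex, inf_eq_left.2 hBK]
      _ ≤ _ := by
          rw [pow_two, ← hm]
          exact Nat.mul_le_mul_left _ hKVm

end Setup

end Cfsg.Agent.PLocal.CommonNormal.Qrc
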